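import Groth.Agent.GrSyzLib.Hilbert
import Groth.Agent.GrTildeLib.Map
import Groth.Agent.GrTildeLib.Twist
import Groth.Agent.CMRegLib.Res

/-!
# The sheaves of a graded free resolution
-/

set_option autoImplicit false
set_option linter.unusedSectionVars false
set_option linter.style.haveILetI false
set_option backward.isDefEq.respectTransparency false
universe u

open DirectSum CategoryTheory CategoryTheory.Limits TopologicalSpace AlgebraicGeometry Opposite
open GrInjLib GrInjLib.Poly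

noncomputable section

namespace Groth.Agent.GrSyzLib

variable {k : Type u} [Field k] {r : ℕ}

local notation "S" => MvPolynomial (Fin (r + 1)) k
local notation "𝒢" => GrSyz.stdGr k (Fin (r + 1))
local notation "𝒜" => CohB1.polyGrading r k
local notation "PS" => CohB1.ProjSpace r k

theorem mem_stdGr_natCast {p : S} {i : ℕ} : p ∈ 𝒢 (i : ℤ) ↔ p ∈ 𝒜 i := by
  have h : ∀ c : Fin (r + 1) →₀ ℕ, (Finsupp.weight (fun _ : Fin (r + 1) => (1 : ℤ)) c) =
      ((Finsupp.weight (1 : Fin (r + 1) → ℕ) c : ℕ) : ℤ) := fun c => by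
    simp [Finsupp.weight_apply, Finsupp.sum]
  constructor
  · intro hp c hc
    have := hp hc
    rw [h] at this
    exact Int.ofNat_inj.1 this
  · intro hp c hc
    rw [h, hp hc]

/-- The grading of a free module, in non-negative degrees. -/
def freeGr {n : ℕ} (e : Fin n → ℤ) : ℕ → Submodule k (Fin n → S) := fun i => piece e (i : ℤ)

/-- The grading of the ring shifted by `c`, in non-negative degrees. -/
def shiftGr (c : ℤ) : ℕ → Submodule k S := fun i => 𝒢 ((i : ℤ) - c)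

theorem mul_mem_shift {i : ℕ} {a : S} (ha : a ∈ 𝒜 i) {g : ℤ} {p : S} (hp : p ∈ 𝒢 g) : a * p ∈ 𝒢 ((i : ℤ) + g) :=
  MvPolynomial.IsWeightedHomogeneous.mul (mem_stdGr_natCast.2 ha) hp

instance gradedSMul_freeGr {n : ℕ} (e : Fin n → ℤ) : SetLike.GradedSMul 𝒜 (freeGr (k := k) (r := r) e) := ⟨by
  intro i j a v ha hv
  refine mem_piece.2 fun b => ?_
  have h := mul_mem_shift ha (mem_piece.1 hv b)
  simp only [vadd_eq_add, Nat.cast_add]
  rw [show ((i : ℤ) + j - e b) = (i : ℤ) + ((j : ℤ) - e b) by ring]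
  exact h⟩

instance gradedSMul_shiftGr (c : ℤ) : SetLike.GradedSMul 𝒜 (shiftGr (k := k) (r := r) c) := ⟨by
  intro i j a v ha hv
  have h := mul_mem_shift ha hv
  simp only [vadd_eq_add, shiftGr, Nat.cast_add]
  rw [show ((i : ℤ) + j - c) = (i : ℤ) + ((j : ℤ) - c) by ring]
  exact h⟩

variable (k r) in
/-- The sheaf of a free module with homogeneous basis. -/
def freeSheaf {n : ℕ} (e : Fin n → ℤ) : (CohB1.ProjSpace r k).Modules :=
  GrTilde.tilde 𝒜 (freeGr (k := k) (r := r) e) 0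

theorem regrades_shift (c : ℤ) : GrTildeLib.Regrades (shiftGr (k := k) (r := r) c) 𝒜 0 (-c) := by
  intro i j m hm he hm0
  have hn : 0 ≤ (i : ℤ) - c := not_lt.1 fun hn => hm0 (hpos _ hn m hm)
  obtain ⟨l, hl⟩ := Int.eq_ofNat_of_zero_le hn
  have hm' : m ∈ 𝒢 ((i : ℤ) - c) := hm
  rw [hl] at hm'
  exact ⟨l, by omega, mem_stdGr_natCast.1 hm'⟩

theorem regrades_shift' (c : ℤ) : GrTildeLib.Regrades 𝒜 (shiftGr (k := k) (r := r) c) (-c) 0 := by
  intro i j m hm he _
  refine ⟨j, by simp, ?_⟩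
  show m ∈ 𝒢 ((j : ℤ) - c)
  rw [show (j : ℤ) - c = (i : ℤ) by omega]
  exact mem_stdGr_natCast.2 hm

/-- The sheaf of the shifted ring is the twisting sheaf. -/
def shiftIso (c : ℤ) : GrTilde.tilde 𝒜 (shiftGr (k := k) (r := r) c) 0 ≅ Twist.twist 𝒜 (-c) :=
  GrTildeLib.regradeIso (regrades_shift c) (regrades_shift' c) ≪≫ (GrTildeLib.twistIso 𝒜 (-c)).symm

section Split

variable {n : ℕ}

/-- Add a zero coordinate in front. -/
def consZero : (Fin n → S) →ₗ[S] (Fin (n + 1) → S) where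
  toFun v := Fin.cons 0 v
  map_add' v w := by ext1 b; refine Fin.cases ?_ (fun b => ?_) b <;> simp
  map_smul' a v := by ext1 b; refine Fin.cases ?_ (fun b => ?_) b <;> simp

theorem isDeg_consZero (e : Fin (n + 1) → ℤ) :
    GrTildeLib.IsDeg (freeGr (k := k) (r := r) fun b : Fin n => e b.succ) (freeGr e) consZero := fun i v hv =>
  mem_piece.2 fun b => by
    refine Fin.cases ?_ (fun b => ?_) b
    · simp [consZero]
    · simpa [consZero] using mem_piece.1 hv b

/-- The tail. -/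
def tailLin : (Fin (n + 1) → S) →ₗ[S] (Fin n → S) := LinearMap.funLeft S S Fin.succ

theorem isDeg_tailLin (e : Fin (n + 1) → ℤ) :
    GrTildeLib.IsDeg (freeGr (k := k) (r := r) e) (freeGr fun b : Fin n => e b.succ) tailLin := fun i v hv =>
  mem_piece.2 fun b => mem_piece.1 hv b.succ

theorem isDeg_proj (e : Fin (n + 1) → ℤ) :
    GrTildeLib.IsDeg (freeGr (k := k) (r := r) e) (shiftGr (e 0)) (LinearMap.proj 0 : (Fin (n + 1) → S) →ₗ[S] S) :=
  fun i v hv => mem_piece.1 hv 0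

/-- The zeroth coordinate vector. -/
def headLin : S →ₗ[S] (Fin (n + 1) → S) := LinearMap.single S (fun _ : Fin (n + 1) => S) 0

theorem isDeg_headLin (e : Fin (n + 1) → ℤ) :
    GrTildeLib.IsDeg (shiftGr (k := k) (r := r) (e 0)) (freeGr e) headLin := fun i v hv =>
  mem_piece.2 fun b => by
    refine Fin.cases ?_ (fun b => ?_) b
    · show (headLin v : Fin (n + 1) → S) 0 ∈ 𝒢 _
      simp [headLin]
      exact hv
    · simp [headLin, Fin.succ_ne_zero]

theorem split_free (e : Fin (n + 1) → ℤ) :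
    ∃ (f : freeSheaf k r (fun b : Fin n => e b.succ) ⟶ freeSheaf k r e)
      (g : freeSheaf k r e ⟶ Twist.twistProjSpace r k (-(e 0))) (w : f ≫ g = 0),
      (ShortComplex.mk f g w).ShortExact := by
  let f := GrTildeLib.tmap 𝒜 _ _ _ (isDeg_consZero (k := k) (r := r) e) 0
  let g := GrTildeLib.tmap 𝒜 _ _ _ (isDeg_proj (k := k) (r := r) e) 0
  let p := GrTildeLib.tmap 𝒜 _ _ _ (isDeg_tailLin (k := k) (r := r) e) 0
  let s := GrTildeLib.tmap 𝒜 _ _ _ (isDeg_headLin (k := k) (r := r) e) 0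
  have w : f ≫ g = 0 := GrTildeLib.tmap_comp_eq_zero _ _ _ _ 0 fun v => by simp [consZero]
  have hsplit : (ShortComplex.mk f g w).Splitting :=
    { r := p
      s := s
      f_r := (GrTildeLib.tmap_comp _ _ _ _ LinearMap.id (fun _ _ hm => hm) 0 fun v => by
        ext1 b; simp [consZero, tailLin, LinearMap.funLeft_apply]).trans (GrTildeLib.tmap_eq_id _ _ 0 fun _ => rfl)
      s_g := (GrTildeLib.tmap_comp _ _ _ _ LinearMap.id (fun _ _ hm => hm) 0 fun v => by
        simp [headLin]).trans (GrTildeLib.tmap_eq_id _ _ 0 fun _ => rfl)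
      id := GrTildeLib.tmap_add_eq_id _ (isDeg_tailLin e) _ (isDeg_consZero e) _ (isDeg_proj e) _ (isDeg_headLin e) 0
        fun v => by
          ext1 b; refine Fin.cases ?_ (fun b => ?_) b <;>
            simp [consZero, tailLin, headLin, LinearMap.funLeft_apply, Fin.succ_ne_zero] }
  have h2 : (f ≫ g ≫ (shiftIso (k := k) (r := r) (e 0)).hom) = 0 := by rw [← Category.assoc, w, zero_comp]
  refine ⟨f, g ≫ (shiftIso (e 0)).hom, h2, ?_⟩
  have e' : ShortComplex.mk f g w ≅ ShortComplex.mk f (g ≫ (shiftIso (k := k) (r := r) (e 0)).hom) h2 :=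
    ShortComplex.isoMk (Iso.refl _) (Iso.refl _) (shiftIso (e 0)) (by simp) (by simp)
  exact ShortComplex.shortExact_of_iso e' hsplit.shortExact

theorem isZero_freeSheaf_zero (e : Fin 0 → ℤ) : IsZero (freeSheaf k r e) :=
  GrTildeLib.isZero_tilde_of_subsingleton 0

theorem HT_free {n : ℕ} (e : Fin n → ℤ) (d : ℤ) {i : ℕ} (hi : 1 ≤ i)
    (h : ∀ b, -((r : ℤ) + 1) < -(e b) + d ∨ i ≠ r) : CMRegLib.HT (freeSheaf k r e) d i := by
  induction n with
  | zero => exact CMRegLib.subsingleton_zero (X := PS)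
              ((CurveLib.tensR (Twist.twistProjSpace r k d)).map_isZero (isZero_freeSheaf_zero e)) i
  | succ n ih =>
    obtain ⟨f, g, w, hS⟩ := split_free (k := k) (r := r) e
    exact CMRegLib.HT.mid hS (ih _ fun b => h b.succ) (CMRegLib.HT_twist _ _ hi (h 0))

theorem isCoh_freeSheaf {n : ℕ} (e : Fin n → ℤ) : Coh.IsCoh (freeSheaf k r e) := by
  haveI := CMRegLib.isNoetherian_projSpace (k := k) (n := r)
  induction n with
  | zero =>
    exact ProjCoh.isCoh_of_iso ((isZero_cokernel_of_epi (𝟙 (Coh.structureModule PS))).iso (isZero_freeSheaf_zero e))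
      (QCohLib.isCoh_kernel_cokernel (𝟙 (Coh.structureModule PS))
        (DevLib.isCoh_structureModule PS) (DevLib.isCoh_structureModule PS)).2
  | succ n ih =>
    obtain ⟨f, g, w, hS⟩ := split_free (k := k) (r := r) e
    exact QCohLib.isCoh_X₂ hS (ih _) (CurveLib.isCoh_of_isInvertible (CMRegLib.isInvertible_O _))

end Split

theorem hasHomAnn_free {n : ℕ} (e : Fin n → ℤ) : GrTildeLib.HasHomAnn 𝒜 (freeGr (k := k) (r := r) e) := by
  intro x i m t ht htm
  refine ⟨0, ⟨1, SetLike.GradedOne.one_mem⟩, fun h => x.isPrime.ne_top ((Ideal.eq_top_iff_one _).2 h), ?_⟩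
  have ht0 : t ≠ 0 := fun h => ht (h ▸ Submodule.zero_mem _)
  have : m.1 = 0 := funext fun b => (mul_eq_zero.1 (congrFun htm b)).resolve_left ht0
  rw [this, smul_zero]

variable {M : Type u} [AddCommGroup M] [Module k M] [Module (MvPolynomial (Fin (r + 1)) k) M]
  [IsScalarTower k (MvPolynomial (Fin (r + 1)) k) M]
  {ℳ : ℤ → Submodule k M} [Decomposition ℳ] [SetLike.GradedSMul (GrSyz.stdGr k (Fin (r + 1))) ℳ]
  [SetLike.GradedSMul (CohB1.polyGrading r k) (fun n : ℕ => ℳ (n : ℤ))]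

theorem hasHomAnn_module : GrTildeLib.HasHomAnn 𝒜 (fun n : ℕ => ℳ (n : ℤ)) := by
  classical
  intro x i m t ht htm
  obtain ⟨e, he⟩ : ∃ e, (DirectSum.decompose 𝒜 t e : S) ∉ x.asHomogeneousIdeal := by
    by_contra hne
    push Not at hne
    refine ht ?_
    show t ∈ x.asHomogeneousIdeal.toIdeal
    rw [← DirectSum.sum_support_decompose 𝒜 t]
    exact Ideal.sum_mem _ fun c _ => hne c
  refine ⟨e, DirectSum.decompose 𝒜 t e, he, ?_⟩
  have hmem : ∀ c : ℕ, ((DirectSum.decompose 𝒜 t c : S) • m.1) ∈ ℳ ((c : ℤ) + i) := fun c =>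
    SetLike.GradedSMul.smul_mem (mem_stdGr_natCast.2 (DirectSum.decompose 𝒜 t c).2) m.2
  have h0 : (DirectSum.decompose ℳ (∑ c ∈ (DirectSum.decompose 𝒜 t).support,
      (DirectSum.decompose 𝒜 t c : S) • m.1) ((e : ℤ) + i) : M) = 0 := by
    rw [← Finset.sum_smul, DirectSum.sum_support_decompose, htm]
    simp
  rw [DirectSum.decompose_sum, DFinsupp.finsetSum_apply, AddSubmonoidClass.coe_finsetSum] at h0
  rw [Finset.sum_eq_single e] at h0
  · rwa [DirectSum.decompose_of_mem_same ℳ (hmem e)] at h0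
  · intro c _ hc
    rw [DirectSum.decompose_of_mem_ne ℳ (hmem c) (by omega)]
  · intro hc
    rw [DFinsupp.notMem_support_iff.1 hc]
    simp

variable (F : GrSyz.FreeRes (GrSyz.stdGr k (Fin (r + 1))) ℳ)

theorem isDeg_dLin (i : ℕ) :
    GrTildeLib.IsDeg (freeGr (F.deg (i + 1))) (freeGr (F.deg i)) (F.dLin i) := fun d w hw =>
  mem_piece.2 (d_grHom (addFree F) i d w (mem_freePieces.2 (mem_piece.1 hw)))

theorem isDeg_augLin : GrTildeLib.IsDeg (freeGr (F.deg 0)) (fun n : ℕ => ℳ (n : ℤ)) F.augLin := fun d w hw =>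
  aug_grHom (addFree F) d w (mem_freePieces.2 (mem_piece.1 hw))

/-- The differentials on sheaves. -/
def dSheaf (i : ℕ) : freeSheaf k r (F.deg (i + 1)) ⟶ freeSheaf k r (F.deg i) :=
  GrTildeLib.tmap 𝒜 _ _ _ (isDeg_dLin F i) 0

/-- The augmentation on sheaves. -/
def augSheaf : freeSheaf k r (F.deg 0) ⟶
    (GrTilde.tilde 𝒜 (fun n : ℕ => ℳ (n : ℤ)) 0 : (CohB1.ProjSpace r k).Modules) :=
  GrTildeLib.tmap 𝒜 _ _ _ (isDeg_augLin F) 0

theorem exact_dSheaf (i : ℕ) :
    ∃ w : dSheaf F (i + 1) ≫ dSheaf F i = 0, (ShortComplex.mk (dSheaf F (i + 1)) (dSheaf F i) w).Exact :=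
  ⟨_, GrTildeLib.exact_tmap _ (isDeg_dLin F (i + 1)) _ (isDeg_dLin F i) 0 (hasHomAnn_free _)
    (fun v => (F.exact_succ i).ge (LinearMap.mem_range_self _ v))
    fun d z hz hz0 => by
      have h : z ∈ piece (F.deg (i + 1)) (d : ℤ) ⊓ LinearMap.ker ((F.dLin i).restrictScalars k) := ⟨hz, hz0⟩
      rw [piece_inf_ker] at h
      obtain ⟨y, hy, hyz⟩ := h
      exact ⟨y, hy, hyz⟩⟩

theorem exact_augSheaf :
    ∃ w : dSheaf F 0 ≫ augSheaf F = 0, (ShortComplex.mk (dSheaf F 0) (augSheaf F) w).Exact :=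
  ⟨_, GrTildeLib.exact_tmap _ (isDeg_dLin F 0) _ (isDeg_augLin F) 0 hasHomAnn_module
    (fun v => F.exact_zero.ge (LinearMap.mem_range_self _ v))
    fun d z hz hz0 => by
      have h : z ∈ piece (F.deg 0) (d : ℤ) ⊓ LinearMap.ker (F.augLin.restrictScalars k) := ⟨hz, hz0⟩
      rw [piece_inf_ker_aug] at h
      obtain ⟨y, hy, hyz⟩ := h
      exact ⟨y, hy, hyz⟩⟩

theorem epi_augSheaf : Epi (augSheaf F) :=
  GrTildeLib.epi_tmap _ (isDeg_augLin F) 0 fun d z hz => by
    rw [← map_aug_piece F] at hz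
    obtain ⟨y, hy, hyz⟩ := hz
    exact ⟨y, hy, hyz⟩

theorem HT_step {A B C : (CohB1.ProjSpace r k).Modules} {f : A ⟶ B} {g : B ⟶ C}
    (h : ∃ w : f ≫ g = 0, (ShortComplex.mk f g w).Exact) {d : ℤ} {i : ℕ}
    (hA : CMRegLib.HT A d i) (hf : CMRegLib.HT (kernel f) d (i + 1)) : CMRegLib.HT (kernel g) d i := by
  obtain ⟨w, hw⟩ := h
  haveI : Epi (kernel.lift g f w) := (ShortComplex.exact_iff_epi_kernel_lift _).1 hw
  refine CMRegLib.HT.right (CMRegLib.shortExact_ker (kernel.lift g f w)) hA (CMRegLib.HT.iso ?_ hf)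
  exact kernelIsoOfEq (kernel.lift_ι g f w).symm ≪≫ kernelCompMono _ _

theorem HT_kernel_dSheaf {d : ℤ} (hgen : F.IsGenLE d) {i : ℕ} (hi : 1 ≤ i) :
    ∀ (j s : ℕ), r ≤ j + s → CMRegLib.HT (kernel (dSheaf F s)) (d - i) (i + s + 2) := by
  haveI := CMRegLib.isNoetherian_projSpace (k := k) (n := r)
  intro j
  induction j with
  | zero =>
    intro s hs
    exact CMRegLib.vanish_high
      (QCohLib.isCoh_kernel_cokernel _ (isCoh_freeSheaf _) (isCoh_freeSheaf _)).1 _ (by omega)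
  | succ j ih =>
    intro s hs
    refine HT_step (exact_dSheaf F s) (HT_free _ _ (by omega) fun b => ?_) (ih (s + 1) (by omega))
    by_cases h : i + s + 2 = r
    · have := hgen (s + 1 + 1) b
      left; push_cast at *; omega
    · exact Or.inr h

theorem isMRegular_tilde {d : ℤ} (hgen : F.IsGenLE d) :
    Curv2.IsMRegular k r (GrTilde.tilde 𝒜 (fun n : ℕ => ℳ (n : ℤ)) 0) d := by
  intro i hi _
  haveI := epi_augSheaf F
  refine CMRegLib.HT.right (CMRegLib.shortExact_ker (augSheaf F)) (HT_free _ _ hi fun b => ?_)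
    (HT_step (exact_augSheaf F) (HT_free _ _ (by omega) fun b => ?_) (HT_kernel_dSheaf F hgen hi r 0 le_rfl))
  · by_cases h : i = r
    · have := hgen 0 b
      left; push_cast at *; omega
    · exact Or.inr h
  · by_cases h : i + 1 = r
    · have := hgen 1 b
      left; push_cast at *; omega
    · exact Or.inr h

end Groth.Agent.GrSyzLib
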