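import Groth.Agent.GrSyzLib.Levels

/-!
# Regular sheaves with all global sections and their resolutions

A graded module whose sheaves have no higher cohomology in the range of `d`-regularity and whose
pieces above `d` inject into, and whose `d`-th piece surjects onto, the global sections, has a
minimal resolution generated in degrees at most `d + i`.
-/

set_option autoImplicit false
set_option linter.unusedSectionVars false
set_option linter.style.haveILetI false
set_option backward.isDefEq.respectTransparency false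
set_option maxHeartbeats 800000
universe u

open DirectSum CategoryTheory CategoryTheory.Limits TopologicalSpace AlgebraicGeometry Opposite
open GrInjLib GrInjLib.Poly
open Groth.Agent.GrTildeLib

noncomputable section

namespace Groth.Agent.GrSyzLib

variable {k : Type u} [Field k] {r : ℕ}

local notation "S" => MvPolynomial (Fin (r + 1)) k
local notation "𝒢" => GrSyz.stdGr k (Fin (r + 1))
local notation "𝒜" => CohB1.polyGrading r k
local notation "PS" => CohB1.ProjSpace r k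
local notation "gl" => glSec (k := k) (r := r)
local notation "mulT" => mulTw (k := k) (r := r)

variable {M : Type u} [AddCommGroup M] [Module k M] [Module (MvPolynomial (Fin (r + 1)) k) M]
  {𝒩 : ℕ → Submodule k M} [SetLike.GradedSMul (CohB1.polyGrading r k) 𝒩]
variable {Z : Type u} [AddCommGroup Z] [Module k Z] [Module (MvPolynomial (Fin (r + 1)) k) Z]
  {𝒬 : ℕ → Submodule k Z} [SetLike.GradedSMul (CohB1.polyGrading r k) 𝒬]

variable (𝒩) in
/-- The conditions of `c`-regularity on the sheaves and the global sections. -/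
structure Cond (c : ℕ) : Prop where
  van : ∀ (i : ℕ) (d : ℤ), 1 ≤ i → (c : ℤ) - i ≤ d → Subsingleton (Coh.HH PS (GrTilde.tilde 𝒜 𝒩 d) i)
  inj : ∀ (n : ℕ) (d : ℤ) (h : (n : ℤ) = d), c < n → Function.Injective (gl 𝒩 h)
  surj : ∀ (d : ℤ) (h : (c : ℤ) = d), Function.Surjective (gl 𝒩 h)

theorem sum_mulT_gl {n n' : ℕ} {d : ℤ} (h : (n : ℤ) = d - 1) (h' : (n' : ℤ) = d) (m : Fin (r + 1) → 𝒩 n)
    (z : 𝒩 n') (hz : z.1 = ∑ v, (AmpleEmb.coordForm r k v).1 • (m v).1) :
    ∑ v, (mulT 𝒩 v d).app ⊤ (gl 𝒩 h (m v)) = gl 𝒩 h' z := by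
  have h'' : ((1 + n : ℕ) : ℤ) = d := by push_cast; omega
  refine (Finset.sum_congr rfl fun v _ => mulT_gl v h h'' (m v)).trans ?_
  refine (gl_sum h'' _ _).symm.trans (gl_congr _ _ _ _ ?_)
  rw [AddSubmonoidClass.coe_finsetSum, hz]

theorem Cond.surj_ge {c : ℕ} (hC : Cond (k := k) (r := r) 𝒩 c) :
    ∀ (n : ℕ), c ≤ n → ∀ (d : ℤ) (h : (n : ℤ) = d), Function.Surjective (gl 𝒩 h) := by
  intro n hn
  induction n, hn using Nat.le_induction with
  | base => exact fun d h => hC.surj d h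
  | succ n hn ih =>
    intro d h s
    obtain ⟨f, hf⟩ := exists_sum_mul (k := k) (r := r) (𝒩 := 𝒩) (d := d)
      (fun e => hC.van (1 + e) _ (by omega) (by push_cast; omega)) s
    choose m hm using fun v => ih (d - 1) (by omega) (f v)
    have h' : ((1 + n : ℕ) : ℤ) = d := by push_cast; omega
    refine ⟨⟨∑ v, (AmpleEmb.coordForm r k v).1 • (m v).1, sum_mem fun v _ => ?_⟩, ?_⟩
    · rw [show n + 1 = 1 + n by omega]
      exact SetLike.GradedSMul.smul_mem (AmpleEmb.coordForm r k v).2 (m v).2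
    · refine (sum_mulT_gl (show (n : ℤ) = d - 1 by omega) h m _ rfl).symm.trans ?_
      rw [hf]
      exact Finset.sum_congr rfl fun v _ => congrArg _ (hm v)

/-- Above `c` the module is generated by the previous piece. -/
theorem Cond.exists_sum {c : ℕ} (hC : Cond (k := k) (r := r) 𝒩 c) {n : ℕ} (hn : c ≤ n) (z : 𝒩 (n + 1)) :
    ∃ m : Fin (r + 1) → 𝒩 n, z.1 = ∑ v, (AmpleEmb.coordForm r k v).1 • (m v).1 := by
  obtain ⟨f, hf⟩ := exists_sum_mul (k := k) (r := r) (𝒩 := 𝒩) (d := ((n + 1 : ℕ) : ℤ))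
    (fun e => hC.van (1 + e) _ (by omega) (by push_cast; omega)) (gl 𝒩 rfl z)
  choose m hm using fun v => hC.surj_ge n hn _ (show (n : ℤ) = ((n + 1 : ℕ) : ℤ) - 1 by push_cast; omega) (f v)
  refine ⟨m, ?_⟩
  have h' : ((1 + n : ℕ) : ℤ) = ((n + 1 : ℕ) : ℤ) := by push_cast; omega
  let z' : 𝒩 (n + 1) := ⟨∑ v, (AmpleEmb.coordForm r k v).1 • (m v).1, sum_mem fun v _ => by
    rw [show n + 1 = 1 + n by omega]
    exact SetLike.GradedSMul.smul_mem (AmpleEmb.coordForm r k v).2 (m v).2⟩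
  refine congrArg Subtype.val (hC.inj (n + 1) _ rfl (by omega) (a₁ := z) (a₂ := z') ?_)
  refine hf.trans ?_
  refine Eq.trans ?_ (sum_mulT_gl (show (n : ℤ) = ((n + 1 : ℕ) : ℤ) - 1 by omega) rfl m z' rfl)
  exact (Finset.sum_congr rfl fun v _ => congrArg _ (hm v)).symm

/-- The free levels have no higher cohomology in the range. -/
theorem van_free {a : ℕ} (e : Fin a → ℤ) {i : ℕ} (hi : 1 ≤ i) (d : ℤ)
    (h : ∀ b, e b ≤ d + r ∨ i ≠ r) : Subsingleton (Coh.HH PS (GrTilde.tilde 𝒜 (freeGr (k := k) (r := r) e) d) i) :=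
  (vanish_iff (k := k) (r := r) d i).2 (HT_free e d hi fun b => (h b).imp (fun h => by omega) id)

section Seq

variable {a : ℕ} {e : Fin a → ℤ}
  (u : (Fin a → MvPolynomial (Fin (r + 1)) k) →ₗ[MvPolynomial (Fin (r + 1)) k] M)
  (ι : Z →ₗ[MvPolynomial (Fin (r + 1)) k] (Fin a → MvPolynomial (Fin (r + 1)) k))
  (hu : IsDeg (freeGr (k := k) (r := r) e) 𝒩 u) (hι : IsDeg 𝒬 (freeGr (k := k) (r := r) e) ι)
  (hann : HasHomAnn (CohB1.polyGrading r k) 𝒩) (hinj : Function.Injective ι) (hui : ∀ z, u (ι z) = 0)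
  (hex : ∀ (n : ℕ), ∀ w ∈ freeGr (k := k) (r := r) e n, u w = 0 → ∃ z ∈ 𝒬 n, ι z = w)
  (hsurj : ∀ (n : ℕ), ∀ m ∈ 𝒩 n, ∃ w ∈ freeGr (k := k) (r := r) e n, u w = m)

include hann hinj hex hsurj in
theorem levels_shortExact (d : ℤ) :
    (ShortComplex.mk (tmap 𝒜 _ _ ι hι d) (tmap 𝒜 _ _ u hu d) (tmap_comp_eq_zero ι hι u hu d hui)).ShortExact :=
  haveI : Mono (tmap 𝒜 _ _ ι hι d) := mono_tmap ι hι hinj d
  haveI : Epi (tmap 𝒜 _ _ u hu d) := epi_tmap u hu d hsurj
  { exact := exact_tmap ι hι u hu d hann hui hex }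

include u ι hu hι hann hinj hui hex hsurj in
/-- The conditions pass to the kernel of a free cover generated in degrees `≤ c`. -/
theorem Cond.step {c : ℕ} (hC : Cond (k := k) (r := r) 𝒩 c) (he : ∀ b, e b ≤ c) : Cond (k := k) (r := r) 𝒬 (c + 1) where
  van i d hi hd := by
    obtain ⟨i, rfl⟩ : ∃ j, i = j + 1 := ⟨i - 1, by omega⟩
    have hS := levels_shortExact u ι hu hι hann hinj hui hex hsurj d
    have hF : Subsingleton (Coh.HH PS (GrTilde.tilde 𝒜 (freeGr (k := k) (r := r) e) d) (i + 1)) :=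
      van_free e (by omega) d fun b => by
        by_cases h : i + 1 = r
        · have := he b
          left; push_cast at *; omega
        · exact Or.inr h
    cases i with
    | zero =>
      refine CohBase.subsingleton_HH _ _ ?_
      refine @CohBase.subsingleton_one_of_surjective _ _ _ (QCohLib.toAb_shortExact hS) ⊤
        (SerreAff.subsingleton_HU_top hF) fun s => ?_
      obtain ⟨n, hn⟩ := Int.eq_ofNat_of_zero_le (show 0 ≤ d by push_cast at hd; omega)
      obtain ⟨m, rfl⟩ := hC.surj_ge n (by push_cast at hd; omega) d hn.symm s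
      obtain ⟨w, hw, hwm⟩ := hsurj n m.1 m.2
      exact ⟨gl _ hn.symm ⟨w, hw⟩, (tmap_gl u hu hn.symm ⟨w, hw⟩).trans (gl_congr _ _ _ _ hwm)⟩
    | succ i =>
      exact CMRegLib.subsingleton_left hS (i + 1) hF (hC.van (i + 1) d (by omega) (by push_cast at hd ⊢; omega))
  inj n d h _ x y hxy := by
    have h1 := congrArg ((tmap 𝒜 _ _ ι hι d).app ⊤) hxy
    rw [tmap_gl, tmap_gl] at h1
    exact Subtype.ext (hinj (congrArg Subtype.val (injective_gl_free e h h1)))
  surj d h s := by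
    obtain ⟨f, hf⟩ := surjective_gl_free e h (fun b => by have := he b; push_cast at h; omega)
      ((tmap 𝒜 _ _ ι hι d).app ⊤ s)
    have hzero : gl 𝒩 h ⟨u f.1, hu _ _ f.2⟩ = gl 𝒩 h (0 : 𝒩 (c + 1)) := by
      rw [← tmap_gl u hu h f, hf]
      refine (congr($(tmap_comp_eq_zero ι hι u hu d hui).app ⊤ s)).trans ?_
      exact (map_zero (AddMonoidHom.mk' (gl 𝒩 h) (gl_add h))).symm
    obtain ⟨z, hz, hzf⟩ := hex _ f.1 f.2 (congrArg Subtype.val (hC.inj (c + 1) d h (by omega) hzero))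
    refine ⟨⟨z, hz⟩, ?_⟩
    have hm := (QCohLib.toAb_shortExact (levels_shortExact u ι hu hι hann hinj hui hex hsurj d)).mono_f
    refine @CohBase.sections_injective _ _ _ _ _ hm ⊤ _ _ ?_
    show (tmap 𝒜 _ _ ι hι d).app ⊤ _ = (tmap 𝒜 _ _ ι hι d).app ⊤ s
    rw [tmap_gl, ← hf]
    exact gl_congr _ _ _ _ hzf

include u hu hsurj in
/-- A minimal cover of a module with the conditions is generated in degrees `≤ c`. -/
theorem Cond.deg_le {c : ℕ} (hC : Cond (k := k) (r := r) 𝒩 c)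
    (hmin : ∀ w, u w = 0 → ∀ b, w b ∈ (GrSyz.irrel 𝒢).toIdeal) (b : Fin a) : e b ≤ c := by
  classical
  by_contra hlt
  obtain ⟨n, hn⟩ := Int.eq_ofNat_of_zero_le (show 0 ≤ e b - 1 by omega)
  let δ : Fin a → MvPolynomial (Fin (r + 1)) k := Pi.single b 1
  have hδ : δ ∈ freeGr (k := k) (r := r) e (n + 1) := (mem_freeGr e).2 fun b' => by
    rcases eq_or_ne b' b with rfl | hne
    · rw [show δ b' = 1 from Pi.single_eq_same _ _, show ((n + 1 : ℕ) : ℤ) - e b' = 0 by push_cast; omega]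
      exact SetLike.GradedOne.one_mem
    · rw [show δ b' = 0 from Pi.single_eq_of_ne hne _]
      exact zero_mem _
  obtain ⟨m, hm⟩ := hC.exists_sum (n := n) (by omega) ⟨u δ, hu _ _ hδ⟩
  choose w hw hwm using fun v => hsurj n (m v).1 (m v).2
  have h0 : u (δ - ∑ v, (AmpleEmb.coordForm r k v).1 • w v) = 0 := by
    rw [map_sub, map_sum, sub_eq_zero]
    refine hm.trans (Finset.sum_congr rfl fun v _ => ?_)
    rw [map_smul, hwm]
  have h1 := hmin _ h0 b
  refine one_notMem (k := k) (r := r) ?_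
  have h2 : (∑ v, (AmpleEmb.coordForm r k v).1 • w v) b ∈ (GrSyz.irrel 𝒢).toIdeal := by
    rw [Finset.sum_apply]
    refine Ideal.sum_mem _ fun v _ => ?_
    rw [Pi.smul_apply, smul_eq_mul]
    refine Ideal.mul_mem_right _ _ ?_
    rw [hhom]
    exact Ideal.subset_span (X_mem v)
  have h3 := Ideal.add_mem _ h1 h2
  rwa [Pi.sub_apply, sub_add_cancel, show δ b = 1 from Pi.single_eq_same _ _] at h3

end Seq

end Groth.Agent.GrSyzLib
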