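import Mathlib
import Groth.Agent.GrRegLib.Poly

/-!
# Minimal resolutions over a polynomial ring: irredundancy, degrees, length and projective dimension
-/

set_option autoImplicit false
set_option linter.unusedSectionVars false
universe u

open DirectSum CategoryTheory GrInjLib GrInjLib.Poly

noncomputable section

namespace Groth.Agent.GrSyzLib

variable {k : Type u} [Field k] {r : ℕ}
variable {M : Type u} [AddCommGroup M] [Module (MvPolynomial (Fin (r + 1)) k) M] {ρ : Type u} [SetLike ρ M]
  [AddSubgroupClass ρ M] {ℳ : ℤ → ρ} [Decomposition ℳ] [SetLike.GradedSMul (GrSyz.stdGr k (Fin (r + 1))) ℳ]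

local notation "S" => MvPolynomial (Fin (r + 1)) k
local notation "𝒢" => GrSyz.stdGr k (Fin (r + 1))
local notation "𝔪" => HomogeneousIdeal.toIdeal (GrSyz.irrel (GrSyz.stdGr k (Fin (r + 1))))

theorem eq_zero_of_mem_irrel_of_deg_nonpos {g : ℤ} (hg : g ≤ 0) {p : S} (hp : p ∈ 𝒢 g) (hm : p ∈ 𝔪) : p = 0 := by
  rcases hg.lt_or_eq with h | rfl
  · exact hpos g h p hp
  by_contra hne
  have hC : MvPolynomial.coeff 0 p ≠ 0 := by
    obtain ⟨m, hm0⟩ := MvPolynomial.ne_zero_iff.1 hne
    suffices m = 0 by rwa [this] at hm0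
    have hw := hp hm0
    rw [Finsupp.weight_apply, Finsupp.sum] at hw
    refine Finsupp.ext fun j => ?_
    by_contra hj
    have := (Finset.sum_eq_zero_iff_of_nonneg fun j _ => by positivity).1 hw j (Finsupp.mem_support_iff.2 hj)
    simp at this
    exact hj this
  rw [irrel_eq_X] at hm
  obtain ⟨j, -, hj⟩ := MvPolynomial.mem_ideal_span_X_image.1 hm 0 (MvPolynomial.mem_support_iff.2 hC)
  exact hj rfl

variable (F : GrSyz.FreeRes (GrSyz.stdGr k (Fin (r + 1))) ℳ)

theorem mulVecLin_single (i : ℕ) (b : Fin (F.rk (i + 1))) :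
    F.dLin i (Pi.single b 1) = fun a => F.d i a b := by
  show (F.d i).mulVecLin (Pi.single b 1) = _
  rw [Matrix.mulVecLin_apply, Matrix.mulVec_single_one]
  rfl

variable {F}

theorem apply_mem_of_mem_range (hF : F.IsMinimal 𝔪) (i : ℕ) {v : Fin (F.rk i) → S}
    (hv : v ∈ LinearMap.range (F.dLin i)) (a : Fin (F.rk i)) : v a ∈ 𝔪 := by
  obtain ⟨w, rfl⟩ := hv
  show (∑ b, F.d i a b * w b) ∈ 𝔪
  exact sum_mem fun b _ => Ideal.mul_mem_right _ _ (hF i a b)

theorem deg_lt_of_minimal (hF : F.IsMinimal 𝔪) (i : ℕ) (d : ℤ) (h : ∀ a, d ≤ F.deg i a)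
    (b : Fin (F.rk (i + 1))) : d + 1 ≤ F.deg (i + 1) b := by
  by_contra hb
  have hcol : F.dLin i (Pi.single b 1) = 0 := by
    rw [mulVecLin_single]
    funext a
    have := h a
    exact eq_zero_of_mem_irrel_of_deg_nonpos (by omega) (F.d_mem i a b) (hF i a b)
  have hmem : (Pi.single b 1 : Fin (F.rk (i + 1)) → S) ∈ LinearMap.range (F.dLin (i + 1)) :=
    F.exact_succ i ▸ LinearMap.mem_ker.2 hcol
  have := apply_mem_of_mem_range hF (i + 1) hmem b
  rw [Pi.single_eq_same] at this
  exact one_notMem this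

theorem exists_coord_one {N : Type u} [AddCommGroup N] [Module S N] {n : ℕ} {v : Fin n → N} {b : Fin n}
    (h : v b ∈ Submodule.span S (v '' {b' | b' ≠ b})) :
    ∃ c : Fin n → S, c b = 1 ∧ Fintype.linearCombination S v c = 0 := by
  classical
  rw [Finsupp.mem_span_image_iff_linearCombination] at h
  obtain ⟨l, hl, hlv⟩ := h
  rw [Finsupp.mem_supported] at hl
  have hlb : l b = 0 := by
    by_contra hne
    exact hl (Finsupp.mem_support_iff.2 hne) rfl
  refine ⟨(Pi.single b 1 : Fin n → S) - ⇑l, by rw [Pi.sub_apply, Pi.single_eq_same, hlb, sub_zero], ?_⟩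
  rw [map_sub, Fintype.linearCombination_apply_single, one_smul, Fintype.linearCombination_apply]
  rw [Finsupp.linearCombination_apply, Finsupp.sum_fintype _ _ (fun i => zero_smul S (v i))] at hlv
  rw [hlv, sub_self]

theorem mem_span_of_coord_unit {N : Type u} [AddCommGroup N] [Module S N] {n : ℕ} {v : Fin n → N} {b : Fin n}
    {c : Fin n → S} (hc : IsUnit (c b)) (h : Fintype.linearCombination S v c = 0) :
    v b ∈ Submodule.span S (v '' {b' | b' ≠ b}) := by
  classical
  obtain ⟨u, hu⟩ := hc
  rw [Fintype.linearCombination_apply, ← Finset.add_sum_erase _ _ (Finset.mem_univ b), ← hu] at h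
  have h1 : (u : S) • v b ∈ Submodule.span S (v '' {b' | b' ≠ b}) := by
    rw [eq_neg_of_add_eq_zero_left h]
    exact neg_mem (Submodule.sum_mem _ fun i hi => Submodule.smul_mem _ _
      (Submodule.subset_span ⟨i, Finset.ne_of_mem_erase hi, rfl⟩))
  have := Submodule.smul_mem _ ((u⁻¹ : Sˣ) : S) h1
  rwa [smul_smul, Units.inv_mul, one_smul] at this

theorem mulVecLin_eq_linearCombination (i : ℕ) :
    F.dLin i = Fintype.linearCombination S (fun (b : Fin (F.rk (i + 1))) a => F.d i a b) := by
  refine LinearMap.pi_ext' fun b => LinearMap.ext_ring ?_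
  show F.dLin i (Pi.single b 1) = Fintype.linearCombination S _ (Pi.single b 1)
  rw [mulVecLin_single, Fintype.linearCombination_apply_single, one_smul]

theorem isMinimal_iff : F.IsMinimal 𝔪 ↔
    ((∀ b : Fin (F.rk 0), F.aug b ∉ Submodule.span S (F.aug '' {b' | b' ≠ b})) ∧
      ∀ (i : ℕ) (b : Fin (F.rk (i + 1))),
        (fun a => F.d i a b) ∉ Submodule.span S ((fun b' a => F.d i a b') '' {b' | b' ≠ b})) := by
  constructor
  · intro hF
    refine ⟨fun b h => ?_, fun i b h => ?_⟩
    · obtain ⟨c, hc, hc0⟩ := exists_coord_one (v := F.aug) h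
      have := apply_mem_of_mem_range hF 0 (F.exact_zero ▸ LinearMap.mem_ker.2 hc0) b
      exact one_notMem (hc ▸ this)
    · obtain ⟨c, hc, hc0⟩ := exists_coord_one (v := fun b' a => F.d i a b') h
      rw [← mulVecLin_eq_linearCombination] at hc0
      have := apply_mem_of_mem_range hF (i + 1) (F.exact_succ i ▸ LinearMap.mem_ker.2 hc0) b
      exact one_notMem (hc ▸ this)
  · rintro ⟨h0, h1⟩ i a b
    by_contra hne
    have hu := isUnit_of_notMem _ _ (F.d_mem i a b) hne
    have hcol : F.dLin i (Pi.single b 1) ∈ LinearMap.range (F.dLin i) := LinearMap.mem_range_self _ _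
    have hua : IsUnit (F.dLin i (Pi.single b 1) a) := by rw [mulVecLin_single]; exact hu
    cases i with
    | zero =>
      rw [← F.exact_zero, LinearMap.mem_ker] at hcol
      exact h0 a (mem_span_of_coord_unit hua hcol)
    | succ i =>
      rw [← F.exact_succ i, LinearMap.mem_ker] at hcol
      refine h1 i a (mem_span_of_coord_unit hua ?_)
      rw [← mulVecLin_eq_linearCombination]
      exact hcol

/-- The syzygy modules as a sequence of submodules. -/
def syzSub (F : GrSyz.FreeRes 𝒢 ℳ) (i : ℕ) : Submodule S (Fin (F.rk i) → S) := LinearMap.range (F.dLin i)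

theorem hasProjectiveDimensionLT_free (n : ℕ) :
    HasProjectiveDimensionLT (ModuleCat.of S (Fin n → S)) 1 := by
  rw [← projective_iff_hasProjectiveDimensionLT_one]
  exact (IsProjective.iff_projective (R := S) (Fin n → S)).1 inferInstance

theorem pd_step_zero (n : ℕ) : HasProjectiveDimensionLT (ModuleCat.of S M) (n + 2) ↔
    HasProjectiveDimensionLT (ModuleCat.of S (syzSub F 0)) (n + 1) := by
  have hsurj : Function.Surjective F.augLin := F.aug_surjective
  have hE := LinearMap.shortExact_shortComplexKer hsurj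
  have h2 : Projective (ModuleCat.of S (Fin (F.rk 0) → S)) :=
    (IsProjective.iff_projective (R := S) (Fin (F.rk 0) → S)).1 inferInstance
  rw [hE.hasProjectiveDimensionLT_X₃_iff n h2]
  let e : LinearMap.ker F.augLin ≃ₗ[S] syzSub F 0 := LinearEquiv.ofEq _ _ F.exact_zero
  exact ⟨fun h => haveI := h; hasProjectiveDimensionLT_of_iso e.toModuleIso (n + 1),
    fun h => haveI := h; hasProjectiveDimensionLT_of_iso e.symm.toModuleIso (n + 1)⟩

theorem pd_step_succ (i n : ℕ) : HasProjectiveDimensionLT (ModuleCat.of S (syzSub F i)) (n + 2) ↔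
    HasProjectiveDimensionLT (ModuleCat.of S (syzSub F (i + 1))) (n + 1) := by
  let f := (F.dLin i).rangeRestrict
  have hsurj : Function.Surjective f := LinearMap.surjective_rangeRestrict _
  have hE := LinearMap.shortExact_shortComplexKer hsurj
  have h2 : Projective (ModuleCat.of S (Fin (F.rk (i + 1)) → S)) :=
    (IsProjective.iff_projective (R := S) (Fin (F.rk (i + 1)) → S)).1 inferInstance
  rw [show HasProjectiveDimensionLT (ModuleCat.of S (syzSub F i)) (n + 2) ↔
    HasProjectiveDimensionLT (ModuleCat.of S (LinearMap.ker f)) (n + 1) from hE.hasProjectiveDimensionLT_X₃_iff n h2]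
  let e : LinearMap.ker f ≃ₗ[S] syzSub F (i + 1) := LinearEquiv.ofEq _ _
    ((LinearMap.ker_rangeRestrict _).trans (F.exact_succ i))
  exact ⟨fun h => haveI := h; hasProjectiveDimensionLT_of_iso e.toModuleIso (n + 1),
    fun h => haveI := h; hasProjectiveDimensionLT_of_iso e.symm.toModuleIso (n + 1)⟩

theorem pd_shift (n : ℕ) : ∀ i : ℕ, HasProjectiveDimensionLT (ModuleCat.of S M) (n + i + 2) ↔
    HasProjectiveDimensionLT (ModuleCat.of S (syzSub F i)) (n + 1)
  | 0 => pd_step_zero n
  | i + 1 => by
    rw [show n + (i + 1) + 2 = (n + 1) + i + 2 by omega, pd_shift (n + 1) i]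
    exact pd_step_succ i n

/-- A minimal cover of a projective module is injective. -/
theorem ker_eq_bot_of_projective {P : Type u} [AddCommGroup P] [Module S P] (hP : Module.Projective S P) {n : ℕ}
    (f : (Fin n → S) →ₗ[S] P) (hf : Function.Surjective f) (hmin : ∀ v, f v = 0 → ∀ j, v j ∈ 𝔪) :
    LinearMap.ker f = ⊥ := by
  classical
  obtain ⟨s, hs⟩ := Module.projective_lifting_property f LinearMap.id hf
  let e : (Fin n → S) →ₗ[S] (Fin n → S) := LinearMap.id - s.comp f
  have he : ∀ v, f (e v) = 0 := fun v => by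
    have h1 : f (s (f v)) = f v := LinearMap.congr_fun hs (f v)
    simp [e, h1]
  have hsmul : LinearMap.ker f ≤ 𝔪 • LinearMap.ker f := fun v hv => by
    have hev : e v = v := by simp [e, LinearMap.mem_ker.1 hv]
    rw [← hev, pi_eq_sum_univ' v, map_sum]
    exact Submodule.sum_mem _ fun j _ => by
      rw [map_smul]; exact Submodule.smul_mem_smul (hmin v hv j) (he _)
  have hfg : (LinearMap.ker f).FG := IsNoetherian.noetherian _
  obtain ⟨t, ht, htk⟩ := Submodule.exists_sub_one_mem_and_smul_eq_zero_of_fg_of_le_smul _ _ hfg hsmul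
  have ht0 : t ≠ 0 := fun h0 => one_notMem (k := k) (r := r) (by
    rw [h0, zero_sub] at ht; simpa using neg_mem ht)
  refine eq_bot_iff.2 fun v hv => funext fun j => ?_
  exact (mul_eq_zero.1 (congrFun (htk v hv) j)).resolve_left ht0

theorem rk_succ_eq_zero (hF : F.IsMinimal 𝔪) {i : ℕ} (h : F.rk (i + 1) = 0) : F.rk (i + 2) = 0 := by
  by_contra hne
  obtain ⟨b⟩ : Nonempty (Fin (F.rk (i + 2))) := ⟨⟨0, Nat.pos_of_ne_zero hne⟩⟩
  have : IsEmpty (Fin (F.rk (i + 1))) := by rw [h]; infer_instance
  have hmem : (Pi.single b 1 : Fin (F.rk (i + 2)) → S) ∈ LinearMap.range (F.dLin (i + 2)) :=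
    F.exact_succ (i + 1) ▸ LinearMap.mem_ker.2 (Subsingleton.elim _ _)
  have := apply_mem_of_mem_range hF (i + 2) hmem b
  rw [Pi.single_eq_same] at this
  exact one_notMem this

theorem rk_eq_zero_of_ker (hF : F.IsMinimal 𝔪) {i : ℕ} (h : LinearMap.range (F.dLin i) = ⊥) : F.rk (i + 1) = 0 := by
  by_contra hne
  obtain ⟨b⟩ : Nonempty (Fin (F.rk (i + 1))) := ⟨⟨0, Nat.pos_of_ne_zero hne⟩⟩
  have hcol : F.dLin i (Pi.single b 1) = 0 := (Submodule.mem_bot S).1 (h ▸ LinearMap.mem_range_self _ _)
  have hmem : (Pi.single b 1 : Fin (F.rk (i + 1)) → S) ∈ LinearMap.range (F.dLin (i + 1)) :=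
    F.exact_succ i ▸ LinearMap.mem_ker.2 hcol
  have := apply_mem_of_mem_range hF (i + 1) hmem b
  rw [Pi.single_eq_same] at this
  exact one_notMem this

theorem hasLengthLE_iff (hF : F.IsMinimal 𝔪) (n : ℕ) :
    F.HasLengthLE n ↔ HasProjectiveDimensionLE (ModuleCat.of S M) n := by
  constructor
  · intro h
    have hbot : syzSub F n = ⊥ := by
      have : IsEmpty (Fin (F.rk (n + 1))) := by rw [h (n + 1) (by omega)]; infer_instance
      exact LinearMap.range_eq_bot.2 (LinearMap.ext fun x => by rw [Subsingleton.elim x 0, map_zero]; rfl)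
    show HasProjectiveDimensionLT _ (n + 1)
    cases n with
    | zero =>
      rw [← projective_iff_hasProjectiveDimensionLT_one, ← IsProjective.iff_projective]
      have hker : LinearMap.ker F.augLin = ⊥ := F.exact_zero.trans hbot
      exact Module.Projective.of_equiv (LinearEquiv.ofBijective F.augLin ⟨LinearMap.ker_eq_bot.1 hker, F.aug_surjective⟩)
    | succ n =>
      rw [show n + 1 + 1 = 0 + n + 2 by omega, pd_shift (F := F) 0 n, ← projective_iff_hasProjectiveDimensionLT_one,
        ← IsProjective.iff_projective]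
      let f := (F.dLin n).rangeRestrict
      have hker : LinearMap.ker f = ⊥ :=
        (LinearMap.ker_rangeRestrict _).trans ((F.exact_succ n).trans hbot)
      exact Module.Projective.of_equiv
        (LinearEquiv.ofBijective f ⟨LinearMap.ker_eq_bot.1 hker, LinearMap.surjective_rangeRestrict _⟩)
  · intro h i hi
    have hn1 : F.rk (n + 1) = 0 := by
      cases n with
      | zero =>
        have : Module.Projective S M := by
          rw [IsProjective.iff_projective, projective_iff_hasProjectiveDimensionLT_one]; exact h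
        have hker := ker_eq_bot_of_projective this F.augLin F.aug_surjective fun v hv =>
          apply_mem_of_mem_range hF 0 (F.exact_zero ▸ LinearMap.mem_ker.2 hv)
        exact rk_eq_zero_of_ker hF (F.exact_zero.symm.trans hker)
      | succ n =>
        have h' : HasProjectiveDimensionLT (ModuleCat.of S M) (0 + n + 2) := by
          rw [show 0 + n + 2 = n + 1 + 1 by omega]; exact h
        rw [pd_shift (F := F) 0 n, ← projective_iff_hasProjectiveDimensionLT_one, ← IsProjective.iff_projective] at h'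
        
        let f := (F.dLin n).rangeRestrict
        have hker := ker_eq_bot_of_projective (P := syzSub F n) h' f (LinearMap.surjective_rangeRestrict _) fun v hv =>
          apply_mem_of_mem_range hF (n + 1) (F.exact_succ n ▸ (LinearMap.ker_rangeRestrict (F.dLin n)) ▸ LinearMap.mem_ker.2 hv)
        exact rk_eq_zero_of_ker hF (((LinearMap.ker_rangeRestrict _).trans (F.exact_succ n)).symm.trans hker)
    obtain ⟨j, rfl⟩ : ∃ j, i = n + 1 + j := ⟨i - (n + 1), by omega⟩
    clear hi
    induction j with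
    | zero => exact hn1
    | succ j ih =>
      rw [show n + 1 + (j + 1) = (n + j) + 2 by omega]
      exact rk_succ_eq_zero hF (by rw [show n + j + 1 = n + 1 + j by omega]; exact ih)

end Groth.Agent.GrSyzLib
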