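import Mathlib
import Groth.Agent.GrSyzLib.Min

/-!
# Tor with the residue field from a minimal resolution
-/

set_option autoImplicit false
set_option linter.unusedSectionVars false
universe u

open DirectSum CategoryTheory CategoryTheory.Limits GrInjLib GrInjLib.Poly
open scoped TensorProduct MonoidalCategory

noncomputable section

namespace Groth.Agent.GrSyzLib

variable {k : Type u} [Field k] {r : ℕ}
variable {M : Type u} [AddCommGroup M] [Module (MvPolynomial (Fin (r + 1)) k) M] {ρ : Type u} [SetLike ρ M]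
  [AddSubgroupClass ρ M] {ℳ : ℤ → ρ} [Decomposition ℳ] [SetLike.GradedSMul (GrSyz.stdGr k (Fin (r + 1))) ℳ]

local notation "S" => MvPolynomial (Fin (r + 1)) k
local notation "𝒢" => GrSyz.stdGr k (Fin (r + 1))
local notation "𝔪" => HomogeneousIdeal.toIdeal (GrSyz.irrel (GrSyz.stdGr k (Fin (r + 1))))

theorem irrel_eq_ker : 𝔪 = RingHom.ker (MvPolynomial.constantCoeff : S →+* k) := by
  ext p
  rw [irrel_eq_X, RingHom.mem_ker, MvPolynomial.constantCoeff_eq, MvPolynomial.mem_ideal_span_X_image]
  constructor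
  · intro h
    by_contra hC
    obtain ⟨j, -, hj⟩ := h 0 (MvPolynomial.mem_support_iff.2 hC)
    exact hj rfl
  · intro h m hm
    have hm0 : m ≠ 0 := by rintro rfl; exact MvPolynomial.mem_support_iff.1 hm h
    obtain ⟨j, hj⟩ : ∃ j, m j ≠ 0 := by
      by_contra hall
      exact hm0 (Finsupp.ext fun j => by by_contra hj; exact hall ⟨j, hj⟩)
    exact ⟨j, trivial, hj⟩

theorem irrel_isMaximal : (𝔪).IsMaximal := by
  rw [irrel_eq_ker]
  exact RingHom.ker_isMaximal_of_surjective _ fun c => ⟨MvPolynomial.C c, MvPolynomial.constantCoeff_C _ _⟩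

theorem length_residue_pow (n : ℕ) : Module.length S (Fin n → S ⧸ 𝔪) = n := by
  haveI : IsSimpleModule S (S ⧸ 𝔪) := isSimpleModule_iff_isCoatom.2 irrel_isMaximal.out
  rw [Module.length_pi_of_fintype]
  simp [Module.length_eq_one]

variable (F : GrSyz.FreeRes (GrSyz.stdGr k (Fin (r + 1))) ℳ)

/-- The underlying complex of free modules. -/
def freeComplex : ChainComplex (ModuleCat.{u} S) ℕ :=
  ChainComplex.of (fun i => ModuleCat.of S (Fin (F.rk i) → S)) (fun i => ModuleCat.ofHom (F.dLin i))
    fun i => ModuleCat.hom_ext (LinearMap.ext fun v => LinearMap.mem_ker.1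
      ((F.exact_succ i).ge (LinearMap.mem_range_self _ v)))

theorem freeComplex_d (i : ℕ) : (freeComplex F).d (i + 1) i = ModuleCat.ofHom (F.dLin i) :=
  ChainComplex.of_d (fun i => ModuleCat.of S (Fin (F.rk i) → S)) (fun i => ModuleCat.ofHom (F.dLin i)) i

theorem freeComplex_exactAt (i : ℕ) : (freeComplex F).ExactAt (i + 1) := by
  rw [HomologicalComplex.exactAt_iff' _ (i + 2) (i + 1) i (by simp) (by simp),
    ShortComplex.moduleCat_exact_iff_range_eq_ker]
  show LinearMap.range ((freeComplex F).d (i + 2) (i + 1)).hom = LinearMap.ker ((freeComplex F).d (i + 1) i).hom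
  rw [freeComplex_d F (i + 1), freeComplex_d F i]
  exact (F.exact_succ i).symm

/-- The augmentation of the complex of free modules. -/
def freeComplexAug : freeComplex F ⟶ (ChainComplex.single₀ (ModuleCat.{u} S)).obj (ModuleCat.of S M) :=
  ((freeComplex F).toSingle₀Equiv (ModuleCat.of S M)).symm ⟨ModuleCat.ofHom F.augLin, by
    rw [freeComplex_d F 0]
    exact ModuleCat.hom_ext (LinearMap.ext fun v => LinearMap.mem_ker.1
      (F.exact_zero.ge (LinearMap.mem_range_self _ v)))⟩

theorem freeComplexAug_f_zero : (freeComplexAug F).f 0 = ModuleCat.ofHom F.augLin :=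
  ChainComplex.toSingle₀Equiv_symm_apply_f_zero _ _

theorem quasiIso_aug : QuasiIso (freeComplexAug F) := by
  constructor
  rintro (_ | i)
  · rw [ChainComplex.quasiIsoAt₀_iff, ShortComplex.quasiIso_iff_of_zeros' _ rfl rfl rfl]
    constructor
    · rw [ShortComplex.moduleCat_exact_iff_range_eq_ker]
      show LinearMap.range ((freeComplex F).d 1 0).hom = LinearMap.ker ((freeComplexAug F).f 0).hom
      rw [freeComplex_d F 0, freeComplexAug_f_zero]
      exact F.exact_zero.symm
    · rw [ModuleCat.epi_iff_surjective]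
      show Function.Surjective ((freeComplexAug F).f 0).hom
      rw [freeComplexAug_f_zero]
      exact F.aug_surjective
  · rw [quasiIsoAt_iff_exactAt' _ _ (ChainComplex.exactAt_succ_single_obj _ _)]
    exact freeComplex_exactAt F i

/-- The projective resolution underlying a free resolution. -/
def projRes : ProjectiveResolution (ModuleCat.of S M) where
  complex := freeComplex F
  projective i := (IsProjective.iff_projective (R := S) (Fin (F.rk i) → S)).1 inferInstance
  π := freeComplexAug F
  quasiIso := quasiIso_aug F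

theorem lTensor_dLin_eq_zero (hF : F.IsMinimal 𝔪) (i : ℕ) : (F.dLin i).lTensor (S ⧸ 𝔪) = 0 := by
  refine TensorProduct.ext' fun x v => ?_
  rw [LinearMap.lTensor_tmul, LinearMap.zero_apply, pi_eq_sum_univ' (F.dLin i v), TensorProduct.tmul_sum]
  refine Finset.sum_eq_zero fun a _ => ?_
  rw [TensorProduct.tmul_smul, TensorProduct.smul_tmul']
  obtain ⟨y, rfl⟩ := Ideal.Quotient.mk_surjective x
  rw [show (F.dLin i v a) • Ideal.Quotient.mk 𝔪 y = (0 : S ⧸ 𝔪) from
    (Ideal.Quotient.eq_zero_iff_mem (I := 𝔪)).2 (Ideal.mul_mem_right y _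
      (apply_mem_of_mem_range hF i (LinearMap.mem_range_self _ v) a)), TensorProduct.zero_tmul]

theorem tor_residue_length (hF : F.IsMinimal 𝔪) (i : ℕ) :
    Module.length S (((Tor (ModuleCat.{u} S) i).obj (ModuleCat.of S (S ⧸ 𝔪))).obj (ModuleCat.of S M))
      = (F.rk i : ℕ∞) := by
  let T := (MonoidalCategory.tensoringLeft (ModuleCat.{u} S)).obj (ModuleCat.of S (S ⧸ 𝔪))
  let K := (T.mapHomologicalComplex (ComplexShape.down ℕ)).obj (projRes F).complex
  have hz : ∀ a b, K.d a b = 0 := by
    intro a b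
    by_cases h : b + 1 = a
    · subst h
      show T.map ((freeComplex F).d (b + 1) b) = 0
      rw [freeComplex_d F b]
      apply ModuleCat.hom_ext
      show (F.dLin b).lTensor (S ⧸ 𝔪) = 0
      exact lTensor_dLin_eq_zero F hF b
    · exact K.shape _ _ h
  let e₁ := (projRes F).isoLeftDerivedObj T i
  let e₂ : (K.sc i).homology ≅ (K.sc i).X₂ :=
    (ShortComplex.LeftHomologyData.ofZeros (K.sc i) (hz _ _) (hz _ _)).homologyIso
  have h := LinearEquiv.length_eq ((e₁ ≪≫ e₂).toLinearEquiv)
  refine Eq.trans h ?_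
  show Module.length S ((S ⧸ 𝔪) ⊗[S] (Fin (F.rk i) → S)) = _
  rw [(TensorProduct.piScalarRight S S (S ⧸ 𝔪) (Fin (F.rk i))).length_eq, length_residue_pow]

end Groth.Agent.GrSyzLib
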