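import Mathlib
import Groth.Agent.GrSyzLib.Min
import Groth.Agent.GrSyzLib.Tor
import Groth.Agent.ABLib.Basic
import Groth.Agent.RegLocal.GlobalDim
import Groth.Agent.GrKunnethLib.CM
import Groth.Agent.GeomRk.AnyExt
import Groth.Agent.CAlgBasics.ReflexiveDepth

/-!
# Finiteness of resolutions and the Auslander–Buchsbaum formula over a polynomial ring
-/

set_option autoImplicit false
set_option linter.unusedSectionVars false
set_option linter.style.haveILetI false
universe u

open DirectSum CategoryTheory GrInjLib GrInjLib.Poly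

noncomputable section

namespace Groth.Agent.GrSyzLib

variable {k : Type u} [Field k] {r : ℕ}
variable {M : Type u} [AddCommGroup M] [Module (MvPolynomial (Fin (r + 1)) k) M] {ρ : Type u} [SetLike ρ M]
  [AddSubgroupClass ρ M] {ℳ : ℤ → ρ} [Decomposition ℳ] [SetLike.GradedSMul (GrSyz.stdGr k (Fin (r + 1))) ℳ]

local notation "S" => MvPolynomial (Fin (r + 1)) k
local notation "𝒢" => GrSyz.stdGr k (Fin (r + 1))
local notation "𝔪" => HomogeneousIdeal.toIdeal (GrSyz.irrel (GrSyz.stdGr k (Fin (r + 1))))

theorem ringKrullDim_eq : ringKrullDim S = (r + 1 : ℕ) := by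
  rw [MvPolynomial.ringKrullDim_of_isNoetherianRing, ringKrullDim_eq_zero_of_field]
  simp

theorem ringKrullDim_localization_le (p : Ideal S) [p.IsPrime] :
    ringKrullDim (Localization.AtPrime p) ≤ (r + 1 : ℕ) := by
  rw [IsLocalization.AtPrime.ringKrullDim_eq_height p, ← ringKrullDim_eq (k := k)]
  exact Ideal.height_le_ringKrullDim_of_ne_top Ideal.IsPrime.ne_top'

/-- The polynomial ring has global dimension at most `r + 1`. -/
theorem hasProjectiveDimensionLE_poly (M : Type u) [AddCommGroup M] [Module (MvPolynomial (Fin (r + 1)) k) M]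
    [Module.Finite (MvPolynomial (Fin (r + 1)) k) M] :
    HasProjectiveDimensionLE (ModuleCat.of (MvPolynomial (Fin (r + 1)) k) M) (r + 1) := by
  rw [ModuleCat.hasProjectiveDimensionLE_iff_forall_maximalSpectrum]
  intro m
  haveI := m.isMaximal
  have hle := ringKrullDim_localization_le m.asIdeal
  obtain ⟨d, hd⟩ : ∃ d : ℕ, ringKrullDim (Localization.AtPrime m.asIdeal) = d := by
    rcases h : ringKrullDim (Localization.AtPrime m.asIdeal) with _ | a
    · exact absurd h ringKrullDim_ne_bot
    · cases a with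
      | top => rw [h] at hle; exact absurd hle (not_le.2 (WithBot.coe_lt_coe.2 (ENat.coe_lt_top (r + 1))))
      | coe a => exact ⟨a, rfl⟩
  rw [hd, Nat.cast_le] at hle
  haveI := ModuleCat.localizedModule_isLocalizedModule.{u} (ModuleCat.of S M) m.asIdeal.primeCompl
  haveI : Module.Finite (Localization.AtPrime m.asIdeal) ((ModuleCat.of S M).localizedModule m.asIdeal.primeCompl) :=
    Module.Finite.of_isLocalizedModule m.asIdeal.primeCompl
      ((ModuleCat.of S M).localizedModuleMkLinearMap m.asIdeal.primeCompl)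
  have h : HasProjectiveDimensionLT (ModuleCat.of (Localization.AtPrime m.asIdeal)
      ((ModuleCat.of S M).localizedModule m.asIdeal.primeCompl)) (d + 1) :=
    RegLocal.finite_hasProjectiveDimensionLT d (Localization.AtPrime m.asIdeal) hd _
  show HasProjectiveDimensionLT ((ModuleCat.of S M).localizedModule m.asIdeal.primeCompl) (r + 1 + 1)
  exact hasProjectiveDimensionLT_of_ge (ModuleCat.of (Localization.AtPrime m.asIdeal)
      ((ModuleCat.of S M).localizedModule m.asIdeal.primeCompl)) (d + 1) _ (by omega)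

theorem exists_res_hasLengthLE [Module.Finite (MvPolynomial (Fin (r + 1)) k) M] :
    ∃ F : GrSyz.FreeRes (GrSyz.stdGr k (Fin (r + 1))) ℳ,
      F.IsMinimal (GrSyz.irrel (GrSyz.stdGr k (Fin (r + 1)))).toIdeal ∧ F.HasLengthLE (r + 1) := by
  haveI : Module.Finite S (addG 𝒢 ℳ).carrier := inferInstanceAs (Module.Finite S M)
  obtain ⟨F, hF⟩ := exists_minimal_res isUnit_of_notMem (addG 𝒢 ℳ)
  have hF' : (subFree F).IsMinimal 𝔪 := hF
  exact ⟨subFree F, hF', (hasLengthLE_iff hF' _).2 (hasProjectiveDimensionLE_poly M)⟩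

variable (F : GrSyz.FreeRes (GrSyz.stdGr k (Fin (r + 1))) ℳ)

theorem loc_step_zero (p : Submonoid S) (n : ℕ) :
    HasProjectiveDimensionLT ((ModuleCat.localizedModuleFunctor p).obj (ModuleCat.of S M)) (n + 2) ↔
    HasProjectiveDimensionLT ((ModuleCat.localizedModuleFunctor p).obj (ModuleCat.of S (syzSub F 0))) (n + 1) := by
  have hsurj : Function.Surjective F.augLin := F.aug_surjective
  have hE := (LinearMap.shortExact_shortComplexKer hsurj).map_of_exact (ModuleCat.localizedModuleFunctor p)
  have h2 : Projective ((ModuleCat.localizedModuleFunctor p).obj (ModuleCat.of S (Fin (F.rk 0) → S))) :=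
    (ModuleCat.localizedModuleFunctor p).projective_obj_of_projective
      ((IsProjective.iff_projective (R := S) (Fin (F.rk 0) → S)).1 inferInstance)
  refine (hE.hasProjectiveDimensionLT_X₃_iff n h2).trans ?_
  let e : LinearMap.ker F.augLin ≃ₗ[S] syzSub F 0 := LinearEquiv.ofEq _ _ F.exact_zero
  exact ⟨fun h => @hasProjectiveDimensionLT_of_iso _ _ _ _ _
      ((ModuleCat.localizedModuleFunctor p).mapIso e.toModuleIso) (n + 1) h,
    fun h => @hasProjectiveDimensionLT_of_iso _ _ _ _ _
      ((ModuleCat.localizedModuleFunctor p).mapIso e.symm.toModuleIso) (n + 1) h⟩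

theorem loc_step_succ (p : Submonoid S) (i n : ℕ) :
    HasProjectiveDimensionLT ((ModuleCat.localizedModuleFunctor p).obj (ModuleCat.of S (syzSub F i))) (n + 2) ↔
    HasProjectiveDimensionLT ((ModuleCat.localizedModuleFunctor p).obj (ModuleCat.of S (syzSub F (i + 1)))) (n + 1) := by
  let f := (F.dLin i).rangeRestrict
  have hsurj : Function.Surjective f := LinearMap.surjective_rangeRestrict _
  have hE := (LinearMap.shortExact_shortComplexKer hsurj).map_of_exact (ModuleCat.localizedModuleFunctor p)
  have h2 : Projective ((ModuleCat.localizedModuleFunctor p).obj (ModuleCat.of S (Fin (F.rk (i + 1)) → S))) :=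
    (ModuleCat.localizedModuleFunctor p).projective_obj_of_projective
      ((IsProjective.iff_projective (R := S) (Fin (F.rk (i + 1)) → S)).1 inferInstance)
  refine (hE.hasProjectiveDimensionLT_X₃_iff n h2).trans ?_
  let e : LinearMap.ker f ≃ₗ[S] syzSub F (i + 1) := LinearEquiv.ofEq _ _
    ((LinearMap.ker_rangeRestrict _).trans (F.exact_succ i))
  exact ⟨fun h => @hasProjectiveDimensionLT_of_iso _ _ _ _ _
      ((ModuleCat.localizedModuleFunctor p).mapIso e.toModuleIso) (n + 1) h,
    fun h => @hasProjectiveDimensionLT_of_iso _ _ _ _ _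
      ((ModuleCat.localizedModuleFunctor p).mapIso e.symm.toModuleIso) (n + 1) h⟩

theorem loc_shift (p : Submonoid S) (n : ℕ) : ∀ i : ℕ,
    HasProjectiveDimensionLT ((ModuleCat.localizedModuleFunctor p).obj (ModuleCat.of S M)) (n + i + 2) ↔
    HasProjectiveDimensionLT ((ModuleCat.localizedModuleFunctor p).obj (ModuleCat.of S (syzSub F i))) (n + 1)
  | 0 => loc_step_zero F p n
  | i + 1 => by
    rw [show n + (i + 1) + 2 = (n + 1) + i + 2 by omega, loc_shift p (n + 1) i]
    exact loc_step_succ F p i n

/-- A cover, minimal at `𝔪`, of a module projective at `𝔪` is injective. -/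
theorem ker_eq_bot_of_projective_at {P : Type u} [AddCommGroup P] [Module S P] [(𝔪).IsPrime]
    (hP : Module.Projective (Localization (𝔪).primeCompl) (LocalizedModule (𝔪).primeCompl P))
    {n : ℕ} (f : (Fin n → S) →ₗ[S] P) (hf : Function.Surjective f) (hmin : ∀ v, f v = 0 → ∀ j, v j ∈ 𝔪) :
    LinearMap.ker f = ⊥ := by
  classical
  let p := (𝔪).primeCompl
  haveI : Module.Finite S P := Module.Finite.of_surjective f hf
  haveI : Module.FinitePresentation S P := Module.finitePresentation_of_finite S P
  obtain ⟨s₀, hs₀⟩ := Module.projective_lifting_property (LocalizedModule.map p f) LinearMap.id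
    (LocalizedModule.map_surjective p f hf)
  let g : P →ₗ[S] LocalizedModule p (Fin n → S) :=
    (s₀.restrictScalars S).comp (LocalizedModule.mkLinearMap p P)
  obtain ⟨s, t, hs⟩ := Module.FinitePresentation.exists_lift_of_isLocalizedModule p
    (LocalizedModule.mkLinearMap p (Fin n → S)) g
  let e : (Fin n → S) →ₗ[S] (Fin n → S) := (t : S) • LinearMap.id - s.comp f
  have hex : ∀ w : Fin n → S, ∃ u : p, (u : S) • f (e w) = 0 := by
    intro w
    have h1 : LocalizedModule.mkLinearMap p P (f (s (f w))) = LocalizedModule.mkLinearMap p P ((t : S) • f w) := by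
      have hA : LocalizedModule.mkLinearMap p (Fin n → S) (s (f w)) = (t : S) • g (f w) := LinearMap.congr_fun hs (f w)
      have hB : LocalizedModule.mkLinearMap p P (f (s (f w))) =
          (LocalizedModule.map p f).restrictScalars S (LocalizedModule.mkLinearMap p (Fin n → S) (s (f w))) := by
        simp [LocalizedModule.map_mk]
      rw [hB, hA, map_smul]
      show (t : S) • (LocalizedModule.map p f) (s₀ (LocalizedModule.mkLinearMap p P (f w))) = _
      rw [show (LocalizedModule.map p f) (s₀ (LocalizedModule.mkLinearMap p P (f w))) =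
        LocalizedModule.mkLinearMap p P (f w) from LinearMap.congr_fun hs₀ _, map_smul]
    obtain ⟨u, hu⟩ := (IsLocalizedModule.eq_iff_exists p (LocalizedModule.mkLinearMap p P)).1 h1
    refine ⟨u, ?_⟩
    simp only [e, LinearMap.sub_apply, LinearMap.smul_apply, LinearMap.id_apply, LinearMap.comp_apply, map_sub,
      map_smul, smul_sub]
    rw [sub_eq_zero]
    exact hu.symm
  choose u hu using hex
  let U : p := ∏ j : Fin n, u (Pi.single j 1)
  have hUe : ∀ j, (U : S) • e (Pi.single j 1) ∈ LinearMap.ker f := by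
    intro j
    rw [LinearMap.mem_ker, map_smul]
    obtain ⟨c, hc⟩ : u (Pi.single j 1) ∣ U := Finset.dvd_prod_of_mem _ (Finset.mem_univ j)
    rw [hc, Submonoid.coe_mul, mul_comm, mul_smul, hu, smul_zero]
  have hsmul : LinearMap.ker f ≤ 𝔪 • LinearMap.ker f := by
    intro v hv
    have hev : ((U : S) * (t : S)) • v = ∑ j, v j • ((U : S) • e (Pi.single j 1)) := by
      have : e v = (t : S) • v := by simp [e, LinearMap.mem_ker.1 hv]
      rw [mul_smul, ← this]
      conv_lhs => rw [pi_eq_sum_univ' v, map_sum, Finset.smul_sum]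
      exact Finset.sum_congr rfl fun j _ => by rw [map_smul, smul_comm]
    have hmem : ((U : S) * (t : S)) • v ∈ 𝔪 • LinearMap.ker f := by
      rw [hev]
      exact Submodule.sum_mem _ fun j _ => Submodule.smul_mem_smul (hmin v hv j) (hUe j)
    obtain ⟨a, i, hi, hai⟩ := irrel_isMaximal.exists_inv (x := (U : S) * (t : S)) ((U * t).2)
    have : v = i • v + a • (((U : S) * (t : S)) • v) := by
      rw [smul_smul, ← add_smul, show i + a * ((U : S) * (t : S)) = 1 from (add_comm _ _).trans hai, one_smul]
    rw [this]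
    exact add_mem (Submodule.smul_mem_smul hi hv) (Submodule.smul_mem _ _ hmem)
  have hfg : (LinearMap.ker f).FG := IsNoetherian.noetherian _
  obtain ⟨a, ha, hak⟩ := Submodule.exists_sub_one_mem_and_smul_eq_zero_of_fg_of_le_smul _ _ hfg hsmul
  have ha0 : a ≠ 0 := fun h0 => one_notMem (k := k) (r := r) (by
    rw [h0, zero_sub] at ha; simpa using neg_mem ha)
  refine eq_bot_iff.2 fun v hv => funext fun j => ?_
  exact (mul_eq_zero.1 (congrFun (hak v hv) j)).resolve_left ha0

theorem rk_zero_ne_zero (hF : F.IsMinimal 𝔪) {ℓ : ℕ} (hℓ : F.rk ℓ ≠ 0) : F.rk 0 ≠ 0 := by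
  intro h0
  have hall : ∀ i, F.rk i = 0 := by
    intro i
    induction i with
    | zero => exact h0
    | succ i ih =>
      haveI : IsEmpty (Fin (F.rk i)) := by rw [ih]; infer_instance
      exact rk_eq_zero_of_ker hF (Subsingleton.elim _ _)
  exact hℓ (hall ℓ)

theorem loc_nontrivial [(𝔪).IsPrime] (hF : F.IsMinimal 𝔪) (h0 : F.rk 0 ≠ 0) :
    Nontrivial (LocalizedModule (𝔪).primeCompl M) := by
  by_contra hsub
  rw [not_nontrivial_iff_subsingleton, LocalizedModule.subsingleton_iff] at hsub
  obtain ⟨b⟩ : Nonempty (Fin (F.rk 0)) := ⟨⟨0, Nat.pos_of_ne_zero h0⟩⟩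
  obtain ⟨t, ht, ht0⟩ := hsub (F.aug b)
  have hmem : (Pi.single b t : Fin (F.rk 0) → S) ∈ LinearMap.range (F.dLin 0) :=
    F.exact_zero ▸ LinearMap.mem_ker.2 (by rw [Fintype.linearCombination_apply_single]; exact ht0)
  have := apply_mem_of_mem_range hF 0 hmem b
  rw [Pi.single_eq_same] at this
  exact ht this

theorem rk_eq_zero_of_loc_pd [(𝔪).IsPrime] (hF : F.IsMinimal 𝔪) (q : ℕ)
    (h : HasProjectiveDimensionLT
      ((ModuleCat.localizedModuleFunctor (𝔪).primeCompl).obj (ModuleCat.of S M)) q) : F.rk q = 0 := by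
  let p := (𝔪).primeCompl
  match q with
  | 0 =>
    by_contra h0
    haveI := loc_nontrivial F hF h0
    have hz := (hasProjectiveDimensionLT_zero_iff_isZero _).1 h
    rw [ModuleCat.isZero_iff_subsingleton] at hz
    haveI : Subsingleton (Shrink.{u} (LocalizedModule p M)) := hz
    exact not_subsingleton (LocalizedModule p M) ((equivShrink (LocalizedModule p M)).subsingleton)
  | 1 =>
    haveI := projective_iff_hasProjectiveDimensionLT_one.2 h
    haveI : Module.Projective (Localization p) (Shrink.{u} (LocalizedModule p M)) :=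
      (IsProjective.iff_projective (R := Localization p) _).2 this
    have hker := ker_eq_bot_of_projective_at
      (Module.Projective.of_equiv (Shrink.linearEquiv (Localization p) (LocalizedModule p M)))
      F.augLin F.aug_surjective fun v hv =>
        apply_mem_of_mem_range hF 0 (F.exact_zero ▸ LinearMap.mem_ker.2 hv)
    exact rk_eq_zero_of_ker hF (F.exact_zero.symm.trans hker)
  | q + 2 =>
    rw [show q + 2 = 0 + q + 2 by omega, loc_shift F p 0 q] at h
    haveI := projective_iff_hasProjectiveDimensionLT_one.2 h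
    haveI : Module.Projective (Localization p) (Shrink.{u} (LocalizedModule p (syzSub F q))) :=
      (IsProjective.iff_projective (R := Localization p) _).2 this
    let f := (F.dLin q).rangeRestrict
    have hker := ker_eq_bot_of_projective_at (P := syzSub F q)
      (Module.Projective.of_equiv (Shrink.linearEquiv (Localization p) (LocalizedModule p (syzSub F q))))
      f (LinearMap.surjective_rangeRestrict _) fun v hv =>
        apply_mem_of_mem_range hF (q + 1)
          (F.exact_succ q ▸ (LinearMap.ker_rangeRestrict (F.dLin q)) ▸ LinearMap.mem_ker.2 hv)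
    exact rk_eq_zero_of_ker hF (((LinearMap.ker_rangeRestrict _).trans (F.exact_succ q)).symm.trans hker)

theorem depth_local_eq [(𝔪).IsPrime] :
    LocCoh.depth (Localization.AtPrime 𝔪) (Localization.AtPrime 𝔪) = (r + 1 : ℕ) := by
  haveI := irrel_isMaximal (k := k) (r := r)
  refine le_antisymm ?_ ?_
  · have h := GeomRk.depth_eq_dim_of_regular (Localization.AtPrime 𝔪)
    have h' := ringKrullDim_localization_le (k := k) (r := r) 𝔪
    rw [← h] at h'
    exact_mod_cast h'
  · rw [← CAlgBasics.depth_congr
        ((IsLocalizedModule.iso (𝔪).primeCompl (Algebra.linearMap S (Localization.AtPrime 𝔪))).extendScalarsOfIsLocalization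
          (𝔪).primeCompl (Localization.AtPrime 𝔪)),
      GrKunnethLib.depth_localization_maximal]
    have hne : (𝔪) • (⊤ : Submodule S S) ≠ ⊤ := by
      rw [smul_eq_mul, Ideal.mul_top]
      exact (Ideal.ne_top_iff_one _).2 one_notMem
    rw [LocCoh.idealDepth, if_neg hne]
    refine le_iSup₂_of_le (List.ofFn fun j : Fin (r + 1) => (MvPolynomial.X j : S)) ⟨isWeaklyRegular_X, ?_⟩ ?_
    · intro y hy
      obtain ⟨j, rfl⟩ := List.mem_ofFn.1 hy
      rw [irrel_eq_X]
      exact Ideal.subset_span ⟨j, trivial, rfl⟩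
    · rw [List.length_ofFn]

theorem auslander_buchsbaum [Module.Finite (MvPolynomial (Fin (r + 1)) k) M] (hF : F.IsMinimal 𝔪)
    {ℓ : ℕ} (hℓ : F.HasLengthLE ℓ) (hℓ' : F.rk ℓ ≠ 0) :
    (ℓ : ℕ∞) + LocCoh.idealDepth 𝔪 M = ((r + 1 : ℕ) : ℕ∞) := by
  haveI := irrel_isMaximal (k := k) (r := r)
  let p := (𝔪).primeCompl
  haveI := loc_nontrivial F hF (rk_zero_ne_zero F hF hℓ')
  let X := (ModuleCat.localizedModuleFunctor p).obj (ModuleCat.of S M)
  have hle : HasProjectiveDimensionLE X ℓ :=
    haveI := (hasLengthLE_iff hF ℓ).1 hℓ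
    (ModuleCat.of S M).localizedModule_hasProjectiveDimensionLE ℓ p
  have hpd : projectiveDimension X = ((ℓ : ℕ) : WithBot ℕ∞) :=
    le_antisymm ((projectiveDimension_le_iff X ℓ).2 hle)
      ((projectiveDimension_ge_iff X ℓ).2 fun h => hℓ' (rk_eq_zero_of_loc_pd F hF ℓ h))
  let e : ModuleCat.of (Localization p) (LocalizedModule p M) ≅ X :=
    (Shrink.linearEquiv (Localization p) (LocalizedModule p M)).symm.toModuleIso
  rw [← projectiveDimension_eq_of_iso e] at hpd
  haveI : Module.Finite (Localization.AtPrime 𝔪) (LocalizedModule p M) :=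
    Module.Finite.of_isLocalizedModule p (LocalizedModule.mkLinearMap p M)
  have hmain := ABLib.main (r + 1) (Localization.AtPrime 𝔪) depth_local_eq (LocalizedModule p M) ℓ hpd
  rw [GrKunnethLib.depth_localization_maximal] at hmain
  exact hmain.symm

end Groth.Agent.GrSyzLib
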