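import Groth.Agent.GrSyzLib.CMConv
import Groth.Agent.GrSyzLib.Local

/-!
# Regularity of a module and of its sheaf
-/

set_option autoImplicit false
set_option linter.unusedSectionVars false
set_option linter.style.haveILetI false
set_option backward.isDefEq.respectTransparency false
set_option maxHeartbeats 800000
universe u

open DirectSum CategoryTheory CategoryTheory.Limits TopologicalSpace AlgebraicGeometry Opposite
open GrInjLib GrInjLib.Poly
open Groth.Agent.GrTildeLib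

noncomputable section

namespace Groth.Agent.GrSyzLib

variable {k : Type u} [Field k] {r : ℕ}

local notation "S" => MvPolynomial (Fin (r + 1)) k
local notation "𝒢" => GrSyz.stdGr k (Fin (r + 1))
local notation "𝒜" => CohB1.polyGrading r k
local notation "PS" => CohB1.ProjSpace r k
local notation "gl" => glSec (k := k) (r := r)
local notation "𝔪" => HomogeneousIdeal.toIdeal (GrSyz.irrel (GrSyz.stdGr k (Fin (r + 1))))

section Sub

variable {a : ℕ}

/-- The pieces of a submodule of a free module. -/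
def subGr (K : Submodule (MvPolynomial (Fin (r + 1)) k) (Fin a → MvPolynomial (Fin (r + 1)) k)) (e : Fin a → ℤ) :
    ℕ → Submodule k K :=
  fun n => (freeGr (k := k) (r := r) e n).comap (K.subtype.restrictScalars k)

variable (K : Submodule (MvPolynomial (Fin (r + 1)) k) (Fin a → MvPolynomial (Fin (r + 1)) k)) (e : Fin a → ℤ)

instance gradedSMul_subGr : SetLike.GradedSMul (CohB1.polyGrading r k) (subGr K e) := ⟨by
  intro i j c v hc hv
  exact SetLike.GradedSMul.smul_mem (B := freeGr (k := k) (r := r) e) hc (show v.1 ∈ freeGr e j from hv)⟩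

theorem isDeg_subtype : IsDeg (subGr K e) (freeGr e) K.subtype := fun _ _ hv => hv

theorem hasHomAnn_sub : HasHomAnn (CohB1.polyGrading r k) (subGr K e) := by
  intro x i m t ht htm
  refine ⟨0, ⟨1, SetLike.GradedOne.one_mem⟩, fun h => x.isPrime.ne_top ((Ideal.eq_top_iff_one _).2 h), ?_⟩
  have ht0 : t ≠ 0 := fun h => ht (h ▸ Submodule.zero_mem _)
  have : m.1 = 0 := Subtype.ext (funext fun b =>
    (mul_eq_zero.1 (congrFun (congrArg Subtype.val htm) b)).resolve_left ht0)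
  rw [this, smul_zero]

end Sub

variable {M : Type u} [AddCommGroup M] [Module k M] [Module (MvPolynomial (Fin (r + 1)) k) M]
  [IsScalarTower k (MvPolynomial (Fin (r + 1)) k) M]
  {ℳ : ℤ → Submodule k M} [Decomposition ℳ] [SetLike.GradedSMul (GrSyz.stdGr k (Fin (r + 1))) ℳ]
  [SetLike.GradedSMul (CohB1.polyGrading r k) (fun n : ℕ => ℳ (n : ℤ))]

variable (F : GrSyz.FreeRes (GrSyz.stdGr k (Fin (r + 1))) ℳ)

/-- The pieces of the syzygy modules. -/
abbrev syzGr (i : ℕ) : ℕ → Submodule k (LinearMap.range (F.dLin i)) :=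
  subGr (LinearMap.range (F.dLin i)) (F.deg i)

theorem exists_aug_pre (n : ℕ) (m : M) (hm : m ∈ ℳ (n : ℤ)) :
    ∃ w ∈ freeGr (k := k) (r := r) (F.deg 0) n, F.augLin w = m := by
  rw [← map_aug_piece F] at hm
  obtain ⟨y, hy, hyz⟩ := hm
  exact ⟨y, hy, hyz⟩

theorem exists_pre : ∀ (i n : ℕ), ∀ w ∈ freeGr (k := k) (r := r) (F.deg i) n, w ∈ LinearMap.range (F.dLin i) →
    ∃ y ∈ freeGr (k := k) (r := r) (F.deg (i + 1)) n, F.dLin i y = w := by
  intro i n w hw hwr
  cases i with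
  | zero =>
    have h : w ∈ piece (F.deg 0) (n : ℤ) ⊓ LinearMap.ker (F.augLin.restrictScalars k) :=
      ⟨hw, F.exact_zero.ge hwr⟩
    rw [piece_inf_ker_aug] at h
    exact h
  | succ i =>
    have h : w ∈ piece (F.deg (i + 1)) (n : ℤ) ⊓ LinearMap.ker ((F.dLin i).restrictScalars k) :=
      ⟨hw, (F.exact_succ i).ge hwr⟩
    rw [piece_inf_ker] at h
    exact h

theorem isDeg_rangeRestrict (i : ℕ) :
    IsDeg (freeGr (F.deg (i + 1))) (syzGr F i) (F.dLin i).rangeRestrict :=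
  fun n w hw => isDeg_dLin F i n w hw

theorem rangeRestrict_subtype (i : ℕ) (z : LinearMap.range (F.dLin (i + 1))) :
    (F.dLin i).rangeRestrict ((LinearMap.range (F.dLin (i + 1))).subtype z) = 0 :=
  Subtype.ext ((F.exact_succ i).ge z.2)

theorem exact_rangeRestrict (i n : ℕ) (w : Fin (F.rk (i + 1)) → MvPolynomial (Fin (r + 1)) k)
    (hw : w ∈ freeGr (k := k) (r := r) (F.deg (i + 1)) n) (h : (F.dLin i).rangeRestrict w = 0) :
    ∃ z ∈ syzGr F (i + 1) n, (LinearMap.range (F.dLin (i + 1))).subtype z = w :=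
  ⟨⟨w, (F.exact_succ i).le (congrArg Subtype.val h)⟩, hw, rfl⟩

theorem exists_range_pre (i n : ℕ) (m : LinearMap.range (F.dLin i)) (hm : m ∈ syzGr F i n) :
    ∃ w ∈ freeGr (k := k) (r := r) (F.deg (i + 1)) n, (F.dLin i).rangeRestrict w = m := by
  obtain ⟨y, hy, hyw⟩ := exists_pre F i n m.1 hm m.2
  exact ⟨y, hy, Subtype.ext hyw⟩

theorem shortExact_aug (d : ℤ) :
    (ShortComplex.mk (tmap 𝒜 (syzGr F 0) _ _ (isDeg_subtype _ _) d) (tmap 𝒜 _ _ _ (isDeg_augLin F) d)
      (tmap_comp_eq_zero _ (isDeg_subtype _ _) _ (isDeg_augLin F) d fun z => F.exact_zero.ge z.2)).ShortExact :=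
  levels_shortExact _ _ (isDeg_augLin F) (isDeg_subtype _ _) hasHomAnn_module Subtype.val_injective
    (fun z => F.exact_zero.ge z.2) (fun n w hw h => ⟨⟨w, F.exact_zero.le h⟩, hw, rfl⟩) (exists_aug_pre F) d

theorem shortExact_syz (i : ℕ) (d : ℤ) :
    (ShortComplex.mk (tmap 𝒜 (syzGr F (i + 1)) _ _ (isDeg_subtype _ _) d) (tmap 𝒜 _ _ _ (isDeg_rangeRestrict F i) d)
      (tmap_comp_eq_zero _ (isDeg_subtype _ _) _ (isDeg_rangeRestrict F i) d (rangeRestrict_subtype F i))).ShortExact :=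
  levels_shortExact _ _ (isDeg_rangeRestrict F i) (isDeg_subtype _ _) (hasHomAnn_sub _ _) Subtype.val_injective
    (rangeRestrict_subtype F i) (exact_rangeRestrict F i) (exists_range_pre F i) d

theorem cond_syz (hF : F.IsMinimal 𝔪) {d : ℕ} (hC : Cond (k := k) (r := r) (fun n : ℕ => ℳ (n : ℤ)) d) :
    ∀ i, Cond (k := k) (r := r) (syzGr F i) (d + i + 1) ∧ ∀ b, F.deg i b ≤ (d : ℤ) + i := by
  intro i
  induction i with
  | zero =>
    have he : ∀ b, F.deg 0 b ≤ (d : ℤ) := Cond.deg_le F.augLin (isDeg_augLin F) (exists_aug_pre F) hC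
      fun w hw => apply_mem_of_mem_range hF 0 (F.exact_zero.le hw)
    refine ⟨?_, fun b => by simpa using he b⟩
    exact Cond.step F.augLin _ (isDeg_augLin F) (isDeg_subtype _ _) hasHomAnn_module Subtype.val_injective
      (fun z => F.exact_zero.ge z.2) (fun n w hw h => ⟨⟨w, F.exact_zero.le h⟩, hw, rfl⟩) (exists_aug_pre F) hC he
  | succ i ih =>
    have he : ∀ b, F.deg (i + 1) b ≤ ((d + i + 1 : ℕ) : ℤ) :=
      Cond.deg_le (F.dLin i).rangeRestrict (isDeg_rangeRestrict F i) (exists_range_pre F i) ih.1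
        fun w hw => apply_mem_of_mem_range hF (i + 1) ((F.exact_succ i).le (congrArg Subtype.val hw))
    refine ⟨?_, fun b => by have := he b; push_cast at *; omega⟩
    exact Cond.step (F.dLin i).rangeRestrict _ (isDeg_rangeRestrict F i) (isDeg_subtype _ _) (hasHomAnn_sub _ _)
      Subtype.val_injective (rangeRestrict_subtype F i) (exact_rangeRestrict F i) (exists_range_pre F i) ih.1 he

theorem isGenLE_of_cond (hF : F.IsMinimal 𝔪) {d : ℕ}
    (hC : Cond (k := k) (r := r) (fun n : ℕ => ℳ (n : ℤ)) d) : F.IsGenLE (d : ℤ) :=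
  fun i b => (cond_syz F hF hC i).2 b

include F in
theorem isCoh_module : Coh.IsCoh (GrTilde.tilde 𝒜 (fun n : ℕ => ℳ (n : ℤ)) 0) := by
  haveI := CMRegLib.isNoetherian_projSpace (k := k) (n := r)
  obtain ⟨w, hw⟩ := exact_augSheaf F
  haveI := epi_augSheaf F
  exact ProjCoh.isCoh_of_iso ((cokernelIsCokernel (dSheaf F 0)).coconePointUniqueUpToIso hw.gIsCokernel)
    (QCohLib.isCoh_kernel_cokernel (dSheaf F 0) (isCoh_freeSheaf _) (isCoh_freeSheaf _)).2

/-- A global section is zero only if the element is torsion. -/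
theorem mem_gam_of_gl_eq_zero {n : ℕ} {d : ℤ} (h : (n : ℤ) = d) (m : ℳ (n : ℤ))
    (hm : gl (fun n : ℕ => ℳ (n : ℤ)) h m = 0) : m.1 ∈ GrLC.gam 𝔪 M := by
  classical
  let I : HomogeneousIdeal 𝒜 :=
    ⟨Ideal.span {c : MvPolynomial (Fin (r + 1)) k | (∃ e, c ∈ 𝒜 e) ∧ c • m.1 = 0},
      Ideal.homogeneous_span 𝒜 _ fun c hc => hc.1⟩
  have hI : I.toIdeal ≤ LinearMap.ker (LinearMap.toSpanSingleton (MvPolynomial (Fin (r + 1)) k) M m.1) := by
    refine Ideal.span_le.2 fun c hc => LinearMap.mem_ker.2 ?_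
    exact hc.2
  have hX : ∀ v : Fin (r + 1), (MvPolynomial.X v : MvPolynomial (Fin (r + 1)) k) ∈ I.toIdeal.radical := fun v => by
    refine mem_radical_of_forall_basicOpen 𝒜 I one_pos (AmpleEmb.coordForm r k v).2 fun x _ hle => ?_
    have hx : (LocalizedModule.mk m.1 1 : GrTilde.LocMod 𝒜 (M := M) x) = 0 :=
      (valAt_gl (𝒩 := fun n : ℕ => ℳ (n : ℤ)) h m ⟨x, trivial⟩).symm.trans
        (by rw [hm]; exact valAt_zero _)
    obtain ⟨t, ht, htm⟩ := mk_eq_zero.1 hx
    obtain ⟨e, c, hc, hcm⟩ := hasHomAnn_module (ℳ := ℳ) x n m t ht htm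
    exact hc (hle (Ideal.subset_span ⟨⟨e, c.2⟩, hcm⟩))
  have hrad : 𝔪 ≤ I.toIdeal.radical := by
    rw [hhom, Ideal.span_le]
    intro p hp
    have h1 : p ∈ 𝔪 := by rw [hhom]; exact Ideal.subset_span hp
    rw [irrel_eq_X] at h1
    exact Ideal.span_le.2 (by rintro _ ⟨v, -, rfl⟩; exact hX v) h1
  obtain ⟨N, hN⟩ := Ideal.exists_pow_le_of_le_radical_of_fg hrad (IsNoetherian.noetherian _)
  exact ⟨N, fun c hc => LinearMap.mem_ker.1 (hI (hN hc))⟩

/-- The conditions of the sheaf-theoretic criterion give the conditions on all levels. -/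
theorem cond_of_sheaf {d : ℕ}
    (hreg : Curv2.IsMRegular k r (GrTilde.tilde 𝒜 (fun n : ℕ => ℳ (n : ℤ)) 0) (d : ℤ))
    (hcoh : Coh.IsCoh (GrTilde.tilde 𝒜 (fun n : ℕ => ℳ (n : ℤ)) 0))
    (htor : ∀ e : ℤ, (d : ℤ) < e → Van (GrSyz.irrel 𝒢) (addG 𝒢 ℳ) 0 e)
    (hsurj : Function.Surjective (gl (fun n : ℕ => ℳ (n : ℤ)) (n := d) rfl)) :
    Cond (k := k) (r := r) (fun n : ℕ => ℳ (n : ℤ)) d where
  van i e hi he := (vanish_iff (k := k) (r := r) e i).2 (CMRegLib.vanish_ge hcoh hreg hi he)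
  inj n e h hn := by
    intro x y hxy
    have h0 : gl (fun n : ℕ => ℳ (n : ℤ)) h (x - y) = 0 := by
      let φ := AddMonoidHom.mk' (gl (fun n : ℕ => ℳ (n : ℤ)) h) (gl_add (𝒩 := fun n : ℕ => ℳ (n : ℤ)) h)
      exact (map_sub φ x y).trans (sub_eq_zero.2 hxy)
    exact sub_eq_zero.1 (Subtype.ext (eq_zero_of_van_zero (htor (n : ℤ) (by omega)) (x - y).2
      (mem_gam_of_gl_eq_zero h (x - y) h0)))
  surj e h := by
    subst h
    exact hsurj

theorem subsingleton_HH_syz {d : ℕ} (hgen : F.IsGenLE (d : ℤ)) {L : ℕ} (hL : F.HasLengthLE L) :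
    ∀ (j i : ℕ), L ≤ i + j → Subsingleton (Coh.HH PS (GrTilde.tilde 𝒜 (syzGr F i) (d : ℤ)) (i + 1)) := by
  intro j
  induction j with
  | zero =>
    intro i hi
    haveI : IsEmpty (Fin (F.rk (i + 1))) := by rw [hL (i + 1) (by omega)]; infer_instance
    haveI : Subsingleton (LinearMap.range (F.dLin i)) := ⟨fun x y => Subtype.ext (by
      obtain ⟨x', hx⟩ := x.2
      obtain ⟨y', hy⟩ := y.2
      rw [← hx, ← hy, Subsingleton.elim x' y'])⟩
    exact CMRegLib.subsingleton_zero (isZero_tilde_of_subsingleton _) _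
  | succ j ih =>
    intro i hi
    refine CMRegLib.subsingleton_right (shortExact_syz F i (d : ℤ)) (i + 1)
      (van_free _ (by omega) _ fun b => ?_) (ih (i + 1) (by omega))
    by_cases h : i + 1 = r
    · have := hgen (i + 1) b
      left; push_cast at *; omega
    · exact Or.inr h

theorem surjective_gl {d : ℕ} (hgen : F.IsGenLE (d : ℤ)) {L : ℕ} (hL : F.HasLengthLE L) :
    Function.Surjective (gl (fun n : ℕ => ℳ (n : ℤ)) (n := d) rfl) := by
  intro s
  haveI : Subsingleton (CohBase.HU (⊤ : (PS).Opens) (Coh.toAb (GrTilde.tilde 𝒜 (syzGr F 0) (d : ℤ))) 1) :=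
    SerreAff.subsingleton_HU_top (subsingleton_HH_syz F hgen hL L 0 (by omega))
  obtain ⟨t, ht⟩ := @CohBase.sections_surjective _ _ _ (QCohLib.toAb_shortExact (shortExact_aug F (d : ℤ))) ⊤ this s
  obtain ⟨f, rfl⟩ := surjective_gl_free (F.deg 0) (n := d) rfl (fun b => by simpa using hgen 0 b) t
  exact ⟨⟨F.augLin f.1, isDeg_augLin F _ _ f.2⟩, (tmap_gl F.augLin (isDeg_augLin F) rfl f).symm.trans ht⟩

end Groth.Agent.GrSyzLib
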