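import Mathlib
import Groth.Agent.GrSyzLib.Min
import Groth.Agent.GrCoreLib.VeronesePresent

/-!
# Hilbert functions from free resolutions
-/

set_option autoImplicit false
set_option linter.unusedSectionVars false
universe u

open DirectSum GrInjLib GrInjLib.Poly

noncomputable section

namespace Groth.Agent.GrSyzLib

variable {k : Type u} [Field k] {r : ℕ}

local notation "S" => MvPolynomial (Fin (r + 1)) k
local notation "𝒢" => GrSyz.stdGr k (Fin (r + 1))

/-- The number of monomials of degree `g`. -/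
def cnt (r : ℕ) (g : ℤ) : ℕ := if 0 ≤ g then Nat.choose (r + g.toNat) r else 0

theorem finrank_stdGr (g : ℤ) : Module.finrank k ↥(𝒢 g) = cnt r g := by
  unfold cnt
  split_ifs with h
  · lift g to ℕ using h
    show Module.finrank k ↥(MvPolynomial.weightedHomogeneousSubmodule k (fun _ : Fin (r + 1) => (1 : ℤ)) (g : ℤ)) = _
    rw [GrCoreLib.finrank_weighted_one, Int.toNat_natCast, show r + 1 + g - 1 = r + g by omega,
      Nat.choose_symm_add]
  · rw [show 𝒢 g = ⊥ from (Submodule.eq_bot_iff _).2 fun p hp => hpos g (not_le.1 h) p hp, finrank_bot]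

theorem finite_stdGr (g : ℤ) : Module.Finite k ↥(𝒢 g) := by
  by_cases h : 0 ≤ g
  · refine Module.finite_of_finrank_pos ?_
    rw [finrank_stdGr, cnt, if_pos h]
    exact Nat.choose_pos (Nat.le_add_right _ _)
  · rw [show 𝒢 g = ⊥ from (Submodule.eq_bot_iff _).2 fun p hp => hpos g (not_le.1 h) p hp]
    infer_instance

/-- The piece of degree `d` of a graded free module, as a subspace. -/
def piece {n : ℕ} (e : Fin n → ℤ) (d : ℤ) : Submodule k (Fin n → S) :=
  Submodule.pi Set.univ fun b => 𝒢 (d - e b)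

theorem mem_piece {n : ℕ} {e : Fin n → ℤ} {d : ℤ} {v : Fin n → S} :
    v ∈ piece e d ↔ ∀ b, v b ∈ 𝒢 (d - e b) := by
  simp [piece, Submodule.mem_pi]

/-- A piece of a free module is the product of the pieces. -/
def pieceEquiv {n : ℕ} (e : Fin n → ℤ) (d : ℤ) : ↥(piece (k := k) (r := r) e d) ≃ₗ[k] ((b : Fin n) → ↥(𝒢 (d - e b))) where
  toFun v b := ⟨v.1 b, mem_piece.1 v.2 b⟩
  invFun w := ⟨fun b => (w b : S), mem_piece.2 fun b => (w b).2⟩
  map_add' _ _ := rfl
  map_smul' _ _ := rfl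
  left_inv _ := rfl
  right_inv _ := rfl

theorem finite_piece {n : ℕ} (e : Fin n → ℤ) (d : ℤ) : Module.Finite k ↥(piece (k := k) (r := r) e d) := by
  haveI := fun b : Fin n => finite_stdGr (k := k) (r := r) (d - e b)
  exact Module.Finite.equiv (pieceEquiv e d).symm

theorem finrank_piece {n : ℕ} (e : Fin n → ℤ) (d : ℤ) :
    Module.finrank k ↥(piece (k := k) (r := r) e d) = ∑ b, cnt r (d - e b) := by
  haveI := fun b : Fin n => finite_stdGr (k := k) (r := r) (d - e b)
  rw [(pieceEquiv e d).finrank_eq, Module.finrank_pi_fintype]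
  exact Finset.sum_congr rfl fun b _ => finrank_stdGr _

theorem finrank_split {V W : Type u} [AddCommGroup V] [Module k V] [AddCommGroup W] [Module k W]
    (f : V →ₗ[k] W) (P : Submodule k V) [Module.Finite k P] :
    Module.finrank k ↥P = Module.finrank k ↥(P.map f) + Module.finrank k ↥(P ⊓ LinearMap.ker f) := by
  rw [← (f.domRestrict P).finrank_range_add_finrank_ker, LinearMap.range_domRestrict]
  congr 1
  rw [LinearMap.ker_domRestrict]
  exact ((Submodule.equivMapOfInjective P.subtype P.subtype_injective _).trans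
    (LinearEquiv.ofEq _ _ (Submodule.map_comap_subtype _ _))).finrank_eq

variable {M : Type u} [AddCommGroup M] [Module k M] [Module (MvPolynomial (Fin (r + 1)) k) M]
  [IsScalarTower k (MvPolynomial (Fin (r + 1)) k) M]
  {ℳ : ℤ → Submodule k M} [Decomposition ℳ] [SetLike.GradedSMul (GrSyz.stdGr k (Fin (r + 1))) ℳ]
variable (F : GrSyz.FreeRes (GrSyz.stdGr k (Fin (r + 1))) ℳ)

/-- The degree `d` part of the image of the `i`-th differential. -/
def imPiece (i : ℕ) (d : ℤ) : Submodule k (Fin (F.rk i) → S) :=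
  (piece (F.deg (i + 1)) d).map ((F.dLin i).restrictScalars k)

theorem piece_inf_ker (i : ℕ) (d : ℤ) :
    piece (F.deg (i + 1)) d ⊓ LinearMap.ker ((F.dLin i).restrictScalars k) = imPiece F (i + 1) d := by
  ext v
  constructor
  · rintro ⟨hv, hv0⟩
    have hv0' : v ∈ LinearMap.ker (F.dLin i) := hv0
    rw [F.exact_succ i] at hv0'
    obtain ⟨w, hw, hwv⟩ := exists_preimage_piece
      (freeG (𝒜 := 𝒢) (F.deg (i + 1 + 1))).gr (freeG (𝒜 := 𝒢) (F.deg (i + 1))).gr
      ((isGrHom_iff _ _).1 (d_grHom (addFree F) (i + 1))) (g := d) (y := v)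
      (mem_freePieces.2 fun b => by rw [add_zero]; exact mem_piece.1 hv b) hv0'
    exact ⟨w, mem_piece.2 (mem_freePieces.1 hw), hwv⟩
  · rintro ⟨w, hw, rfl⟩
    refine ⟨mem_piece.2 ?_, ?_⟩
    · exact d_grHom (addFree F) (i + 1) d w (mem_freePieces.2 (mem_piece.1 hw))
    · show F.dLin (i + 1) w ∈ LinearMap.ker (F.dLin i)
      rw [F.exact_succ i]
      exact LinearMap.mem_range_self _ _

theorem piece_inf_ker_aug (d : ℤ) :
    piece (F.deg 0) d ⊓ LinearMap.ker (F.augLin.restrictScalars k) = imPiece F 0 d := by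
  ext v
  constructor
  · rintro ⟨hv, hv0⟩
    have hv0' : v ∈ LinearMap.ker F.augLin := hv0
    rw [F.exact_zero] at hv0'
    obtain ⟨w, hw, hwv⟩ := exists_preimage_piece
      (freeG (𝒜 := 𝒢) (F.deg (0 + 1))).gr (freeG (𝒜 := 𝒢) (F.deg 0)).gr
      ((isGrHom_iff _ _).1 (d_grHom (addFree F) 0)) (g := d) (y := v)
      (mem_freePieces.2 fun b => by rw [add_zero]; exact mem_piece.1 hv b) hv0'
    exact ⟨w, mem_piece.2 (mem_freePieces.1 hw), hwv⟩
  · rintro ⟨w, hw, rfl⟩
    refine ⟨mem_piece.2 ?_, ?_⟩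
    · exact d_grHom (addFree F) 0 d w (mem_freePieces.2 (mem_piece.1 hw))
    · show F.dLin 0 w ∈ LinearMap.ker F.augLin
      rw [F.exact_zero]
      exact LinearMap.mem_range_self _ _

theorem map_aug_piece (d : ℤ) : (piece (F.deg 0) d).map (F.augLin.restrictScalars k) = ℳ d := by
  ext m
  constructor
  · rintro ⟨w, hw, rfl⟩
    exact aug_grHom (addFree F) d w (mem_freePieces.2 (mem_piece.1 hw))
  · intro hm
    obtain ⟨w, hw, hwv⟩ := exists_preimage_piece
      (freeG (𝒜 := 𝒢) (F.deg 0)).gr (addG 𝒢 ℳ).gr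
      ((isGrHom_iff _ _).1 (aug_grHom (addFree F))) (g := d) (y := m)
      (by rw [add_zero]; exact hm) (F.aug_surjective m)
    exact ⟨w, mem_piece.2 (mem_freePieces.1 hw), hwv⟩

/-- The number of basis monomials of degree `d` in the `i`-th term. -/
def termCnt (i : ℕ) (d : ℤ) : ℤ := ∑ b, (cnt r (d - F.deg i b) : ℤ)

theorem alt_sum (d : ℤ) : ∀ m : ℕ, ∑ i ∈ Finset.range (m + 1), (-1 : ℤ) ^ i * termCnt F i d =
    (Module.finrank k ↥(ℳ d) : ℤ) + (-1) ^ m * (Module.finrank k ↥(imPiece F m d) : ℤ)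
  | 0 => by
    haveI := finite_piece (k := k) (r := r) (F.deg 0) d
    have h := finrank_split (F.augLin.restrictScalars k) (piece (F.deg 0) d)
    rw [map_aug_piece, piece_inf_ker_aug, finrank_piece] at h
    simp only [zero_add, Finset.range_one, Finset.sum_singleton, pow_zero, one_mul, termCnt]
    exact_mod_cast h
  | m + 1 => by
    haveI := finite_piece (k := k) (r := r) (F.deg (m + 1)) d
    have h := finrank_split ((F.dLin m).restrictScalars k) (piece (F.deg (m + 1)) d)
    rw [piece_inf_ker, finrank_piece] at h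
    rw [Finset.sum_range_succ, alt_sum d m, termCnt, ← Nat.cast_sum, h, Nat.cast_add]
    show _ + _ * ((Module.finrank k ↥(imPiece F m d) : ℤ) + _) = _
    rw [pow_succ]
    ring

include F in
theorem finite_component (d : ℤ) : Module.Finite k ↥(ℳ d) := by
  haveI := finite_piece (k := k) (r := r) (F.deg 0) d
  rw [← map_aug_piece F d]
  exact Module.Finite.map _ _

theorem hilbert_eq {m : ℕ} (hF : F.HasLengthLE m) (d : ℤ) :
    (Module.finrank k ↥(ℳ d) : ℤ) = ∑ i ∈ Finset.range (m + 1), (-1 : ℤ) ^ i * termCnt F i d := by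
  have h0 : imPiece F m d = ⊥ := by
    refine (Submodule.eq_bot_iff _).2 ?_
    rintro _ ⟨w, -, rfl⟩
    haveI : IsEmpty (Fin (F.rk (m + 1))) := by rw [hF (m + 1) (by omega)]; infer_instance
    rw [Subsingleton.elim w 0, map_zero]
  rw [alt_sum F d m, h0, finrank_bot, Nat.cast_zero, mul_zero, add_zero]

theorem cnt_sub_eq (a d : ℤ) :
    (cnt r (d - a) : ℤ) = if a ≤ d then ((Nat.choose (r + (d - a).toNat) r : ℕ) : ℤ) else 0 := by
  unfold cnt
  split_ifs with h h' h'
  · rfl
  · omega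
  · omega
  · rfl

/-- The polynomial `binom (x + r) r`. -/
def cntPoly (r : ℕ) : Polynomial ℚ :=
  Polynomial.C (r.factorial : ℚ)⁻¹ * ∏ t ∈ Finset.range r, (Polynomial.X + Polynomial.C ((t : ℚ) + 1))

theorem eval_cntPoly (r : ℕ) (g : ℤ) :
    (cntPoly r).eval (g : ℚ) = (r.factorial : ℚ)⁻¹ * ∏ t ∈ Finset.range r, (((g + t + 1 : ℤ)) : ℚ) := by
  simp [cntPoly, Polynomial.eval_prod, add_assoc]

theorem prod_eq_ascFactorial (r g : ℕ) :
    ∏ t ∈ Finset.range r, (((g : ℤ) + t + 1 : ℤ) : ℚ) = ((g + 1).ascFactorial r : ℚ) := by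
  induction r with
  | zero => simp
  | succ r ih =>
    rw [Finset.prod_range_succ, ih, Nat.ascFactorial_succ]
    push_cast
    ring

theorem eval_cntPoly_eq {r : ℕ} {g : ℤ} (hg : -(r : ℤ) ≤ g) : (cntPoly r).eval (g : ℚ) = (cnt r g : ℚ) := by
  rw [eval_cntPoly, cnt]
  split_ifs with h
  · lift g to ℕ using h
    rw [prod_eq_ascFactorial, Nat.ascFactorial_eq_factorial_mul_choose, Int.toNat_natCast, Nat.add_comm r g]
    push_cast
    rw [inv_mul_cancel_left₀]
    exact_mod_cast r.factorial_ne_zero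
  · rw [Nat.cast_zero, Finset.prod_eq_zero (i := (-g - 1).toNat) (Finset.mem_range.2 (by omega)), mul_zero]
    have : g + ((-g - 1).toNat : ℤ) + 1 = 0 := by omega
    exact_mod_cast this

/-- The Hilbert polynomial read off from a finite resolution. -/
def resPoly (m : ℕ) : Polynomial ℚ :=
  ∑ i ∈ Finset.range (m + 1), (-1) ^ i * ∑ b, (cntPoly r).comp (Polynomial.X - Polynomial.C (F.deg i b : ℚ))

theorem eval_resPoly (m : ℕ) (d : ℤ) : (resPoly F m).eval (d : ℚ) =
    ∑ i ∈ Finset.range (m + 1), (-1) ^ i * ∑ b, (cntPoly r).eval ((d - F.deg i b : ℤ) : ℚ) := by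
  simp [resPoly, Polynomial.eval_finsetSum, Polynomial.eval_comp]

theorem hilbert_poly_eq {m : ℕ} (hF : F.HasLengthLE m) (d : ℤ)
    (hd : ∀ (i : ℕ) (b : Fin (F.rk i)), F.deg i b - (r : ℤ) ≤ d) :
    ((Module.finrank k ↥(ℳ d) : ℤ) : ℚ) = (resPoly F m).eval (d : ℚ) := by
  rw [hilbert_eq F hF, eval_resPoly]
  push_cast [termCnt]
  refine Finset.sum_congr rfl fun i _ => ?_
  congr 1
  refine Finset.sum_congr rfl fun b _ => ?_
  rw [← Int.cast_sub, eval_cntPoly_eq (by have := hd i b; omega)]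

/-- The degrees occurring in the first terms. -/
def degSet (m : ℕ) : Finset ℤ := (Finset.range (m + 1)).biUnion fun i => Finset.univ.image (F.deg i)

/-- The alternating Betti numbers. -/
def altBetti (m : ℕ) (j : ℤ) : ℤ := ∑ i ∈ Finset.range (m + 1), (-1 : ℤ) ^ i * (F.betti i j : ℤ)

theorem altBetti_eq_zero {m : ℕ} {j : ℤ} (hj : j ∉ degSet F m) : altBetti F m j = 0 := by
  refine Finset.sum_eq_zero fun i hi => ?_
  rw [show F.betti i j = 0 from Finset.card_eq_zero.2 (Finset.filter_eq_empty_iff.2 fun b _ hb =>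
    hj (Finset.mem_biUnion.2 ⟨i, hi, Finset.mem_image.2 ⟨b, Finset.mem_univ _, hb⟩⟩)), Nat.cast_zero, mul_zero]

theorem sum_termCnt (m : ℕ) (d : ℤ) : ∑ i ∈ Finset.range (m + 1), (-1 : ℤ) ^ i * termCnt F i d =
    ∑ j ∈ degSet F m, altBetti F m j * (cnt r (d - j) : ℤ) := by
  simp only [altBetti, Finset.sum_mul, mul_assoc]
  rw [Finset.sum_comm]
  refine Finset.sum_congr rfl fun i hi => ?_
  rw [← Finset.mul_sum, termCnt, ← Finset.sum_fiberwise_of_maps_to (t := degSet F m) (g := F.deg i)]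
  · refine congrArg _ (Finset.sum_congr rfl fun j _ => ?_)
    rw [Finset.sum_congr rfl fun b hb => by rw [(Finset.mem_filter.1 hb).2], Finset.sum_const, nsmul_eq_mul]
    rfl
  · intro b _
    exact Finset.mem_biUnion.2 ⟨i, hi, Finset.mem_image.2 ⟨b, Finset.mem_univ _, rfl⟩⟩

theorem hilbert_betti {m : ℕ} (hF : F.HasLengthLE m) :
    (∀ d : ℤ, (Module.finrank k ↥(ℳ d) : ℤ) = ∑ᶠ j : ℤ, altBetti F m j * (cnt r (d - j) : ℤ)) ∧
      ∀ j : ℤ, altBetti F m j = (Module.finrank k ↥(ℳ j) : ℤ) -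
        ∑ᶠ n : ℤ, if n < j then altBetti F m n * (cnt r (j - n) : ℤ) else 0 := by
  have key : ∀ (d : ℤ) (J : Finset ℤ), degSet F m ⊆ J →
      (Module.finrank k ↥(ℳ d) : ℤ) = ∑ j ∈ J, altBetti F m j * (cnt r (d - j) : ℤ) := by
    intro d J hJ
    rw [hilbert_eq F hF, sum_termCnt]
    exact Finset.sum_subset hJ fun j _ hj => by rw [altBetti_eq_zero F hj, zero_mul]
  refine ⟨fun d => ?_, fun j => ?_⟩
  · rw [key d _ subset_rfl, finsum_eq_sum_of_support_subset _ (s := degSet F m)]
    intro j hj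
    by_contra h
    exact hj (show altBetti F m j * (cnt r (d - j) : ℤ) = 0 by rw [altBetti_eq_zero F h, zero_mul])
  · rw [key j (insert j (degSet F m)) (Finset.subset_insert _ _),
      finsum_eq_sum_of_support_subset _ (s := insert j (degSet F m)), ← Finset.sum_sub_distrib,
      Finset.sum_eq_single j]
    · simp [cnt]
    · intro n _ hn
      rcases lt_or_gt_of_ne hn with h | h
      · rw [if_pos h, sub_self]
      · rw [if_neg (not_lt.2 h.le), show cnt r (j - n) = 0 from if_neg (by omega)]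
        simp
    · intro h
      exact absurd (Finset.mem_insert_self _ _) h
    · intro n hn
      by_contra h
      have h' : n ∉ degSet F m := fun h'' => h (Finset.mem_insert_of_mem h'')
      simp only [Function.mem_support, altBetti_eq_zero F h', zero_mul, ite_self, ne_eq, not_true] at hn

end Groth.Agent.GrSyzLib
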