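import Mathlib
import Groth.Agent.GrSyzLib.Tor

/-!
# The Koszul complex of the variables, as functions on finite sets
-/

set_option autoImplicit false
set_option linter.unusedSectionVars false
universe u

open DirectSum GrInjLib GrInjLib.Poly

noncomputable section

namespace Groth.Agent.GrSyzLib

variable {k : Type u} [Field k] {r : ℕ}

local notation "S" => MvPolynomial (Fin (r + 1)) k
local notation "𝒢" => GrSyz.stdGr k (Fin (r + 1))
local notation "𝔪" => HomogeneousIdeal.toIdeal (GrSyz.irrel (GrSyz.stdGr k (Fin (r + 1))))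
local notation "ι₀" => Fin (r + 1)

/-- The value of `divFirst v` on a monomial. -/
def divFirstAux (v : Fin (r + 1)) (a : Fin (r + 1) →₀ ℕ) : MvPolynomial (Fin (r + 1)) k :=
  if a v ≠ 0 ∧ ∀ u < v, a u = 0 then MvPolynomial.monomial (a - Finsupp.single v 1) 1 else 0

/-- Divide by `x_v` the monomials whose first variable is `x_v`, and forget the others. -/
def divFirst (v : Fin (r + 1)) : MvPolynomial (Fin (r + 1)) k →ₗ[k] MvPolynomial (Fin (r + 1)) k :=
  (MvPolynomial.basisMonomials (Fin (r + 1)) k).constr k (divFirstAux v)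

theorem divFirst_monomial (v : ι₀) (a : ι₀ →₀ ℕ) (c : k) :
    divFirst v (MvPolynomial.monomial a c) = c • divFirstAux v a := by
  rw [show MvPolynomial.monomial a c = c • MvPolynomial.monomial a (1 : k) by rw [MvPolynomial.smul_monomial, smul_eq_mul, mul_one],
    map_smul]
  congr 1
  rw [show MvPolynomial.monomial a (1 : k) = MvPolynomial.basisMonomials ι₀ k a by rw [MvPolynomial.coe_basisMonomials],
    divFirst, Module.Basis.constr_basis]

theorem divFirst_mem (v : ι₀) {g : ℤ} {p : S} (hp : p ∈ 𝒢 g) : divFirst v p ∈ 𝒢 (g - 1) := by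
  rw [p.as_sum, map_sum]
  refine sum_mem fun a ha => ?_
  rw [divFirst_monomial]
  refine Submodule.smul_mem _ _ ?_
  unfold divFirstAux
  split_ifs with h
  · refine MvPolynomial.isWeightedHomogeneous_monomial _ _ _ ?_
    have hw := hp (MvPolynomial.mem_support_iff.1 ha)
    have hadd : (a - Finsupp.single v 1) + Finsupp.single v 1 = a :=
      tsub_add_cancel_of_le (Finsupp.single_le_iff.2 (Nat.one_le_iff_ne_zero.2 h.1))
    have h2 := congrArg (Finsupp.weight (fun _ : ι₀ => (1 : ℤ))) hadd
    rw [map_add, Finsupp.weight_single, one_smul, hw] at h2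
    omega
  · exact zero_mem _

theorem divFirst_X_mul_of_lt {u v : ι₀} (h : u < v) (p : S) : divFirst v (MvPolynomial.X u * p) = 0 := by
  rw [p.as_sum, Finset.mul_sum, map_sum]
  refine Finset.sum_eq_zero fun a _ => ?_
  rw [MvPolynomial.X, MvPolynomial.monomial_mul, divFirst_monomial, divFirstAux, if_neg, smul_zero]
  intro hc
  have := hc.2 u h
  simp at this

theorem divFirst_X_mul_of_gt {u v : ι₀} (h : v < u) (p : S) :
    divFirst v (MvPolynomial.X u * p) = MvPolynomial.X u * divFirst v p := by
  conv_lhs => rw [p.as_sum, Finset.mul_sum, map_sum]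
  conv_rhs => rw [p.as_sum, map_sum, Finset.mul_sum]
  refine Finset.sum_congr rfl fun a _ => ?_
  rw [divFirst_monomial, MvPolynomial.X, MvPolynomial.monomial_mul, divFirst_monomial, one_mul, mul_smul_comm]
  congr 1
  have hiff : ((Finsupp.single u 1 + a : ι₀ →₀ ℕ) v ≠ 0 ∧ ∀ w < v, (Finsupp.single u 1 + a : ι₀ →₀ ℕ) w = 0) ↔
      (a v ≠ 0 ∧ ∀ w < v, a w = 0) := by
    rw [Finsupp.add_apply, Finsupp.single_eq_of_ne h.ne, zero_add]
    refine and_congr Iff.rfl (forall₂_congr fun w hw => ?_)
    rw [Finsupp.add_apply, Finsupp.single_eq_of_ne (hw.trans h).ne, zero_add]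
  unfold divFirstAux
  by_cases hc : a v ≠ 0 ∧ ∀ w < v, a w = 0
  · rw [if_pos (hiff.2 hc), if_pos hc, MvPolynomial.monomial_mul, one_mul, add_tsub_assoc_of_le
      (Finsupp.single_le_iff.2 (Nat.one_le_iff_ne_zero.2 hc.1))]
  · rw [if_neg (mt hiff.1 hc), if_neg hc, mul_zero]

theorem sum_lt_divFirst (w : ι₀) (p : S) :
    (∑ v ∈ Finset.univ.filter (· < w), MvPolynomial.X v * divFirst v p) + divFirst w (MvPolynomial.X w * p) = p := by
  induction p using MvPolynomial.induction_on' with
  | add p q hp hq =>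
    simp only [map_add, mul_add, Finset.sum_add_distrib]
    conv_rhs => rw [← hp, ← hq]
    abel
  | monomial a c =>
    classical
    have hterm : ∀ v : ι₀, MvPolynomial.X v * divFirst v (MvPolynomial.monomial a c) =
        if a v ≠ 0 ∧ ∀ u < v, a u = 0 then MvPolynomial.monomial a c else 0 := by
      intro v
      rw [divFirst_monomial, divFirstAux]
      split_ifs with h
      · rw [MvPolynomial.smul_monomial, smul_eq_mul, mul_one, MvPolynomial.X, MvPolynomial.monomial_mul, one_mul,
          add_tsub_cancel_of_le (Finsupp.single_le_iff.2 (Nat.one_le_iff_ne_zero.2 h.1))]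
      · rw [smul_zero, mul_zero]
    rw [Finset.sum_congr rfl fun v _ => hterm v, MvPolynomial.X, MvPolynomial.monomial_mul, one_mul,
      divFirst_monomial, divFirstAux]
    by_cases he : ∃ u, u < w ∧ a u ≠ 0
    · rw [if_neg, smul_zero, add_zero]
      · obtain ⟨v, hv, hmin⟩ := Finset.exists_min_image (Finset.univ.filter fun u : ι₀ => u < w ∧ a u ≠ 0) id
          (let ⟨u, hu⟩ := he; ⟨u, by simp [hu]⟩)
        simp only [Finset.mem_filter, Finset.mem_univ, true_and, id] at hv hmin
        rw [Finset.sum_eq_single v]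
        · rw [if_pos ⟨hv.2, fun u hu => by
            by_contra h0
            exact absurd (hmin u ⟨hu.trans hv.1, h0⟩) (not_le.2 hu)⟩]
        · intro u hu hne
          rw [if_neg]
          rintro ⟨h1, h2⟩
          rcases lt_or_gt_of_ne hne with h | h
          · exact absurd (hmin u ⟨(Finset.mem_filter.1 hu).2, h1⟩) (not_le.2 h)
          · exact hv.2 (h2 v h)
        · intro h
          exact absurd (show v ∈ Finset.univ.filter (· < w) by simp [hv.1]) h
      · rintro ⟨-, h⟩
        obtain ⟨u, hu, hu0⟩ := he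
        have := h u hu
        simp [Finsupp.single_eq_of_ne hu.ne] at this
        exact hu0 this
    · simp only [not_exists, not_and, not_not] at he
      rw [Finset.sum_eq_zero fun v hv => if_neg fun h => h.1 (he v (Finset.mem_filter.1 hv).2), zero_add,
        if_pos, MvPolynomial.smul_monomial, smul_eq_mul, mul_one, add_tsub_cancel_left]
      refine ⟨by simp, fun u hu => ?_⟩
      rw [Finsupp.add_apply, Finsupp.single_eq_of_ne hu.ne, zero_add, he u hu]

theorem sum_divFirst {p : S} (hp : p ∈ 𝔪) : ∑ v, MvPolynomial.X v * divFirst v p = p := by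
  classical
  rw [irrel_eq_ker, RingHom.mem_ker, MvPolynomial.constantCoeff_eq] at hp
  conv_rhs => rw [p.as_sum]
  rw [show (∑ v, MvPolynomial.X v * divFirst v p) =
      ∑ a ∈ p.support, ∑ v, MvPolynomial.X v * divFirst v (MvPolynomial.monomial a (p.coeff a)) by
    rw [Finset.sum_comm]
    exact Finset.sum_congr rfl fun v _ => by rw [← Finset.mul_sum, ← map_sum, ← p.as_sum]]
  refine Finset.sum_congr rfl fun a ha => ?_
  have ha0 : a ≠ 0 := fun h => MvPolynomial.mem_support_iff.1 ha (h ▸ hp)
  obtain ⟨v, hv, hmin⟩ := Finset.exists_min_image a.support id (Finsupp.support_nonempty_iff.2 ha0)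
  rw [Finset.sum_eq_single v]
  · rw [divFirst_monomial, divFirstAux, if_pos ⟨Finsupp.mem_support_iff.1 hv, fun u hu => by
      by_contra h0
      exact absurd (hmin u (Finsupp.mem_support_iff.2 h0)) (not_le.2 hu)⟩, MvPolynomial.smul_monomial,
      smul_eq_mul, mul_one, MvPolynomial.X, MvPolynomial.monomial_mul, one_mul,
      add_tsub_cancel_of_le (Finsupp.single_le_iff.2 (Nat.one_le_iff_ne_zero.2 (Finsupp.mem_support_iff.1 hv)))]
  · intro u _ hne
    rw [divFirst_monomial, divFirstAux, if_neg, smul_zero, mul_zero]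
    rintro ⟨h1, h2⟩
    rcases lt_or_gt_of_ne hne with h | h
    · exact absurd (hmin u (Finsupp.mem_support_iff.2 h1)) (not_le.2 h)
    · exact Finsupp.mem_support_iff.1 hv (h2 v h)
  · intro h
    exact absurd (Finset.mem_univ v) h

/-- The Koszul sign. -/
def ksgn (u : Fin (r + 1)) (J : Finset (Fin (r + 1))) : MvPolynomial (Fin (r + 1)) k :=
  (-1) ^ (J.filter (· < u)).card

theorem ksgn_mul_self (u : ι₀) (J : Finset ι₀) : ksgn (k := k) u J * ksgn u J = 1 := by
  rw [ksgn, ← mul_pow, neg_one_mul, neg_neg, one_pow]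

theorem ksgn_insert_of_lt {u v : ι₀} {J : Finset ι₀} (h : v < u) (hv : v ∉ J) :
    ksgn (k := k) u (insert v J) = - ksgn u J := by
  rw [ksgn, ksgn, Finset.filter_insert, if_pos h, Finset.card_insert_of_notMem (by simp [hv]), pow_succ, mul_neg_one]

theorem ksgn_insert_of_gt {u v : ι₀} {J : Finset ι₀} (h : u ≤ v) :
    ksgn (k := k) u (insert v J) = ksgn u J := by
  rw [ksgn, ksgn, Finset.filter_insert, if_neg (not_lt.2 h)]

theorem ksgn_swap {u v : ι₀} {J : Finset ι₀} (hne : u ≠ v) (hu : u ∉ J) (hv : v ∉ J) :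
    ksgn (k := k) u J * ksgn v (insert u J) = -(ksgn v J * ksgn u (insert v J)) := by
  rcases lt_or_gt_of_ne hne with h | h
  · rw [ksgn_insert_of_lt h hu, ksgn_insert_of_gt h.le]; ring
  · rw [ksgn_insert_of_gt h.le, ksgn_insert_of_lt h hv]; ring

variable {X : Type u} [AddCommGroup X] [Module (MvPolynomial (Fin (r + 1)) k) X]

/-- The Koszul differential. -/
def kd (m : Finset (Fin (r + 1)) → X) : Finset (Fin (r + 1)) → X :=
  fun J => ∑ v ∈ Jᶜ, (ksgn (k := k) v J * MvPolynomial.X v) • m (insert v J)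

theorem kd_add (m m' : Finset ι₀ → X) : kd (k := k) (m + m') = kd (k := k) m + kd (k := k) m' := by
  funext J
  simp [kd, Finset.sum_add_distrib]

theorem kd_sub (m m' : Finset ι₀ → X) : kd (k := k) (m - m') = kd (k := k) m - kd (k := k) m' := by
  funext J
  simp [kd, smul_sub, Finset.sum_sub_distrib]

theorem kd_zero : kd (k := k) (0 : Finset ι₀ → X) = 0 := by
  funext J
  simp [kd]

theorem kd_map {Y : Type u} [AddCommGroup Y] [Module S Y] (f : X →ₗ[S] Y) (m : Finset ι₀ → X) :
    kd (k := k) (f ∘ m) = f ∘ kd (k := k) m := by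
  funext J
  simp [kd, map_sum, map_smul]

theorem kd_kd (m : Finset ι₀ → X) : kd (k := k) (kd (k := k) m) = 0 := by
  classical
  funext J
  simp only [kd, Finset.smul_sum, smul_smul, Pi.zero_apply]
  rw [Finset.sum_sigma']
  refine Finset.sum_involution (fun x _ => ⟨x.2, x.1⟩) ?_ ?_ ?_ ?_
  · rintro ⟨v, u⟩ hx
    simp only [Finset.mem_sigma, Finset.mem_compl, Finset.mem_insert, not_or] at hx
    obtain ⟨hv, hne, hu⟩ := hx
    rw [Finset.insert_comm v u J, ← add_smul]
    have h := ksgn_swap (k := k) (Ne.symm hne) hv hu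
    rw [show ksgn v J * MvPolynomial.X v * (ksgn u (insert v J) * MvPolynomial.X u) +
      ksgn u J * MvPolynomial.X u * (ksgn v (insert u J) * MvPolynomial.X v) =
      (ksgn v J * ksgn u (insert v J) + ksgn u J * ksgn v (insert u J)) * (MvPolynomial.X v * MvPolynomial.X u : S) by ring,
      h, neg_add_cancel, zero_mul, zero_smul]
  · rintro ⟨v, u⟩ hx - h
    simp only [Finset.mem_sigma, Finset.mem_compl, Finset.mem_insert, not_or] at hx
    exact hx.2.1 (congrArg Sigma.fst h)
  · rintro ⟨v, u⟩ hx
    simp only [Finset.mem_sigma, Finset.mem_compl, Finset.mem_insert, not_or] at hx ⊢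
    exact ⟨hx.2.2, Ne.symm hx.2.1, hx.1⟩
  · rintro ⟨v, u⟩ _
    rfl

/-- The exterior product of a family with the basis vectors. -/
def kwedge (μ : Fin (r + 1) → Finset (Fin (r + 1)) → X) : Finset (Fin (r + 1)) → X :=
  fun J => ∑ v ∈ J, ksgn (k := k) v (J.erase v) • μ v (J.erase v)

theorem kd_kwedge (μ : ι₀ → Finset ι₀ → X) (hμ : ∀ v, kd (k := k) (μ v) = 0) :
    kd (k := k) (kwedge (k := k) μ) = fun J => ∑ v, (MvPolynomial.X v : S) • μ v J := by
  classical
  funext J
  have hsplit : kd (k := k) (kwedge (k := k) μ) J =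
      ∑ u ∈ Jᶜ, (MvPolynomial.X u : S) • μ u J +
      ∑ v ∈ J, ∑ u ∈ Jᶜ, ((ksgn u J * MvPolynomial.X u) * ksgn v (insert u (J.erase v)) : S) • μ v (insert u (J.erase v)) := by
    rw [Finset.sum_comm, ← Finset.sum_add_distrib]
    refine Finset.sum_congr rfl fun u hu => ?_
    rw [Finset.mem_compl] at hu
    rw [kwedge, Finset.sum_insert hu, Finset.erase_insert hu, smul_add, smul_smul, Finset.smul_sum]
    congr 1
    · rw [mul_right_comm, ksgn_mul_self, one_mul]
    · refine Finset.sum_congr rfl fun v hv => ?_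
      rw [Finset.erase_insert_of_ne (fun h : u = v => hu (h ▸ hv)), smul_smul]
  have hinner : ∀ v ∈ J, ∑ u ∈ Jᶜ, ((ksgn u J * MvPolynomial.X u) * ksgn v (insert u (J.erase v)) : S) • μ v (insert u (J.erase v)) =
      (MvPolynomial.X v : S) • μ v J := by
    intro v hv
    have h0 := congrFun (hμ v) (J.erase v)
    rw [Pi.zero_apply, kd, show (J.erase v)ᶜ = insert v Jᶜ from Finset.compl_erase,
      Finset.sum_insert (by simp [hv]), Finset.insert_erase hv] at h0
    have hc : ∀ u ∈ Jᶜ, ((ksgn u J * MvPolynomial.X u) * ksgn v (insert u (J.erase v)) : S) • μ v (insert u (J.erase v)) =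
        -(ksgn v (J.erase v) : S) • ((ksgn u (J.erase v) * MvPolynomial.X u : S) • μ v (insert u (J.erase v))) := by
      intro u hu
      rw [Finset.mem_compl] at hu
      rw [smul_smul]
      congr 1
      have h1 : u ∉ J.erase v := fun h => hu (Finset.mem_of_mem_erase h)
      have h2 : u ≠ v := fun h => hu (h ▸ hv)
      have hsw := ksgn_swap (k := k) (J := J.erase v) h2 h1 (Finset.notMem_erase v J)
      rw [Finset.insert_erase hv] at hsw
      calc (ksgn u J * MvPolynomial.X u) * ksgn v (insert u (J.erase v))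
          = (ksgn u (J.erase v) * ksgn u (J.erase v)) * (ksgn u J * ksgn v (insert u (J.erase v))) * MvPolynomial.X u := by
            rw [ksgn_mul_self]; ring
        _ = ksgn u (J.erase v) * ksgn u J * (ksgn u (J.erase v) * ksgn v (insert u (J.erase v))) * MvPolynomial.X u := by ring
        _ = -(ksgn v (J.erase v)) * (ksgn u J * ksgn u J) * (ksgn u (J.erase v) * MvPolynomial.X u) := by rw [hsw]; ring
        _ = -(ksgn v (J.erase v)) * (ksgn u (J.erase v) * MvPolynomial.X u) := by rw [ksgn_mul_self, mul_one]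
    rw [Finset.sum_congr rfl hc, ← Finset.smul_sum, eq_neg_of_add_eq_zero_right h0, neg_smul, smul_neg, neg_neg,
      smul_smul, ← mul_assoc, ksgn_mul_self, one_mul]
  rw [hsplit, Finset.sum_congr rfl hinner, Finset.sum_compl_add_sum]

/-- Every Koszul cycle of the polynomial ring whose constant part vanishes is a boundary. -/
theorem exists_kd_eq (q : ℕ) (j : ℤ) (z : Finset ι₀ → S) (hsupp : ∀ J, J.card ≠ q → z J = 0)
    (hdeg : ∀ J, J.card = q → z J ∈ 𝒢 j) (hcyc : kd (k := k) z = 0) (hc : z ∅ ∈ 𝔪) :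
    ∃ w : Finset ι₀ → S, (∀ J, J.card ≠ q + 1 → w J = 0) ∧
      (∀ J, J.card = q + 1 → w J ∈ 𝒢 (j - 1)) ∧ kd (k := k) w = z := by
  classical
  let h : Finset ι₀ → S := fun I => if hI : I.Nonempty then divFirst (I.min' hI) (z (I.erase (I.min' hI))) else 0
  have hmin : ∀ (I : Finset ι₀) (v : ι₀) (hv : v ∈ I), (∀ u ∈ I, v ≤ u) → h I = divFirst v (z (I.erase v)) := by
    intro I v hv hle
    have hne : I.Nonempty := ⟨v, hv⟩
    have : I.min' hne = v := le_antisymm (Finset.min'_le _ _ hv) (Finset.le_min' _ _ _ hle)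
    simp only [h, dif_pos hne, this]
  refine ⟨h, fun I hI => ?_, fun I hI => ?_, ?_⟩
  · simp only [h]
    split_ifs with hne
    · rw [hsupp _ (fun hc' => hI (by rw [← Finset.card_erase_add_one (Finset.min'_mem I hne), hc'])), map_zero]
    · rfl
  · simp only [h]
    split_ifs with hne
    · refine divFirst_mem _ (hdeg _ ?_)
      rw [Finset.card_erase_of_mem (Finset.min'_mem I hne), hI, Nat.add_sub_cancel]
    · exact zero_mem _
  funext J
  rcases J.eq_empty_or_nonempty with rfl | hJ
  · rw [kd, Finset.compl_empty]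
    conv_rhs => rw [← sum_divFirst hc]
    refine Finset.sum_congr rfl fun v _ => ?_
    rw [hmin (insert v ∅) v (by simp) (by simp), smul_eq_mul,
      show ksgn (k := k) v (∅ : Finset ι₀) = 1 by simp [ksgn], one_mul]
    simp
  set w := J.min' hJ with hw
  have hwJ : w ∈ J := Finset.min'_mem _ _
  have hwle : ∀ u ∈ J, w ≤ u := fun u hu => Finset.min'_le _ _ hu
  have h0 := congrArg (divFirst w) (congrFun hcyc (J.erase w))
  rw [Pi.zero_apply, map_zero, kd, Finset.compl_erase, Finset.sum_insert (by simp [hwJ]), Finset.insert_erase hwJ,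
    map_add, map_sum] at h0
  have hs1 : ksgn (k := k) w (J.erase w) = 1 := by
    rw [ksgn, Finset.card_eq_zero.2 (Finset.filter_eq_empty_iff.2 fun u hu =>
      not_lt.2 (hwle u (Finset.mem_of_mem_erase hu))), pow_zero]
  rw [hs1, one_mul, smul_eq_mul] at h0
  rw [kd, ← Finset.sum_filter_add_sum_filter_not Jᶜ (· < w)]
  conv_rhs => rw [← sum_lt_divFirst w (z J)]
  congr 1
  · have hset : Jᶜ.filter (· < w) = Finset.univ.filter (· < w) := by
      ext u
      simp only [Finset.mem_filter, Finset.mem_compl, Finset.mem_univ, true_and, and_iff_right_iff_imp]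
      exact fun hu huJ => absurd (hwle u huJ) (not_le.2 hu)
    rw [hset]
    refine Finset.sum_congr rfl fun v hv => ?_
    have hvw := (Finset.mem_filter.1 hv).2
    have hvJ : v ∉ J := fun hv' => absurd (hwle v hv') (not_le.2 hvw)
    rw [hmin (insert v J) v (Finset.mem_insert_self _ _) (fun u hu => by
      rcases Finset.mem_insert.1 hu with rfl | hu
      · exact le_rfl
      · exact hvw.le.trans (hwle u hu)), Finset.erase_insert hvJ, smul_eq_mul,
      show ksgn (k := k) v J = 1 by
        rw [ksgn, Finset.card_eq_zero.2 (Finset.filter_eq_empty_iff.2 fun u hu =>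
          not_lt.2 (hvw.le.trans (hwle u hu))), pow_zero], one_mul]
  · rw [eq_neg_of_add_eq_zero_left h0, ← Finset.sum_neg_distrib]
    rw [← Finset.sum_filter_add_sum_filter_not Jᶜ (· < w) (fun u => -divFirst w _)]
    rw [Finset.sum_eq_zero (s := Jᶜ.filter (· < w)) (fun u hu => ?_), zero_add]
    · refine Finset.sum_congr rfl fun u hu => ?_
      simp only [Finset.mem_filter, Finset.mem_compl, not_lt] at hu
      have hwu : w < u := hu.2.lt_of_ne fun h' => hu.1 (h' ▸ hwJ)
      have hne : u ≠ w := hwu.ne'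
      rw [hmin (insert u J) w (Finset.mem_insert_of_mem hwJ) (fun v hv => by
          rcases Finset.mem_insert.1 hv with rfl | hv
          · exact hwu.le
          · exact hwle v hv), Finset.erase_insert_of_ne hne, smul_eq_mul, smul_eq_mul]
      have hJs : ksgn (k := k) u J = - ksgn u (J.erase w) := by
        conv_lhs => rw [← Finset.insert_erase hwJ]
        exact ksgn_insert_of_lt hwu (Finset.notMem_erase _ _)
      rw [hJs, mul_assoc, mul_assoc]
      unfold ksgn
      rcases neg_one_pow_eq_or S ((J.erase w).filter (· < u)).card with hs | hs <;> rw [hs]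
      · rw [neg_one_mul, one_mul, divFirst_X_mul_of_gt hwu]
      · rw [neg_neg, one_mul, neg_one_mul, map_neg, neg_neg, divFirst_X_mul_of_gt hwu]
    · simp only [Finset.mem_filter] at hu
      rw [smul_eq_mul, mul_assoc]
      unfold ksgn
      rcases neg_one_pow_eq_or S ((J.erase w).filter (· < u)).card with hs | hs <;> rw [hs]
      · rw [one_mul, divFirst_X_mul_of_lt hu.2, neg_zero]
      · rw [neg_one_mul, map_neg, divFirst_X_mul_of_lt hu.2, neg_zero, neg_zero]

end Groth.Agent.GrSyzLib
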