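import Mathlib
import Groth.Agent.GrSyzLib.Koszul
import Groth.Agent.GrSyzLib.Hilbert

/-!
# The regularity bound by the degree for quotients by regular sequences of linear forms
-/

set_option autoImplicit false
set_option linter.unusedSectionVars false
universe u

open DirectSum GrInjLib GrInjLib.Poly

noncomputable section

namespace Groth.Agent.GrSyzLib

variable {k : Type u} [Field k] {r : ℕ}

local notation "S" => MvPolynomial (Fin (r + 1)) k
local notation "𝒢" => GrSyz.stdGr k (Fin (r + 1))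
local notation "𝔪" => HomogeneousIdeal.toIdeal (GrSyz.irrel (GrSyz.stdGr k (Fin (r + 1))))
local notation "𝔞" => GrSyz.irrel (GrSyz.stdGr k (Fin (r + 1)))

variable {N : Type u} [AddCommGroup N] [Module k N] [Module (MvPolynomial (Fin (r + 1)) k) N]
  [IsScalarTower k (MvPolynomial (Fin (r + 1)) k) N]
  (𝒩 : ℤ → Submodule k N) [Decomposition 𝒩] [SetLike.GradedSMul (GrSyz.stdGr k (Fin (r + 1))) 𝒩]

theorem X_smul_mem {g : ℤ} {x : N} (hx : x ∈ 𝒩 g) (v : Fin (r + 1)) : (MvPolynomial.X v : S) • x ∈ 𝒩 (g + 1) := by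
  have := SetLike.GradedSMul.smul_mem (A := 𝒢) (B := 𝒩) (X_mem v) hx
  rwa [show ((1 : ℤ) +ᵥ g) = g + 1 from add_comm _ _] at this

theorem comp_X_smul (v : Fin (r + 1)) (x : N) (g : ℤ) :
    (decompose 𝒩 ((MvPolynomial.X v : S) • x) g : N) = (MvPolynomial.X v : S) • (decompose 𝒩 x (g - 1) : N) := by
  induction x using DirectSum.Decomposition.inductionOn 𝒩 with
  | zero => simp
  | @homogeneous a y =>
    have h := X_smul_mem 𝒩 y.2 v
    by_cases ha : a + 1 = g
    · subst ha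
      rw [decompose_of_mem_same 𝒩 h, add_sub_cancel_right, decompose_of_mem_same 𝒩 y.2]
    · rw [decompose_of_mem_ne 𝒩 h ha, decompose_of_mem_ne 𝒩 y.2 (by omega), smul_zero]
  | add x y hx hy => simp only [smul_add, decompose_add, DirectSum.add_apply, Submodule.coe_add, hx, hy]

/-- Elements whose components below `g` vanish and whose component at `g` lies in `W`. -/
def filt (g : ℤ) (W : Submodule k N) : Submodule (MvPolynomial (Fin (r + 1)) k) N where
  carrier := {x | (∀ h < g, (decompose 𝒩 x h : N) = 0) ∧ (decompose 𝒩 x g : N) ∈ W}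
  zero_mem' := ⟨fun h _ => by simp, by simp⟩
  add_mem' := fun {x y} hx hy => ⟨fun h hh => by simp [hx.1 h hh, hy.1 h hh],
    by simp only [decompose_add, DirectSum.add_apply, Submodule.coe_add]; exact add_mem hx.2 hy.2⟩
  smul_mem' := by
    intro s x hx
    induction s using MvPolynomial.induction_on generalizing x with
    | C a =>
      rw [show (MvPolynomial.C a : S) = algebraMap k S a from rfl, algebraMap_smul]
      exact ⟨fun h hh => by simp only [decompose_smul, DirectSum.smul_apply, Submodule.coe_smul, hx.1 h hh, smul_zero],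
        by simp only [decompose_smul, DirectSum.smul_apply, Submodule.coe_smul]; exact W.smul_mem a hx.2⟩
    | add p q hp hq =>
      obtain ⟨hp1, hp2⟩ := hp hx
      obtain ⟨hq1, hq2⟩ := hq hx
      refine ⟨fun h hh => ?_, ?_⟩
      · simp only [add_smul, decompose_add, DirectSum.add_apply, Submodule.coe_add, hp1 h hh, hq1 h hh, add_zero]
      · simp only [add_smul, decompose_add, DirectSum.add_apply, Submodule.coe_add]
        exact add_mem hp2 hq2
    | mul_X p v hp =>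
      rw [mul_smul]
      refine hp ⟨fun h hh => ?_, ?_⟩
      · rw [comp_X_smul 𝒩, hx.1 _ (by omega), smul_zero]
      · rw [comp_X_smul 𝒩, hx.1 _ (by omega), smul_zero]
        exact zero_mem _

theorem filt_lt (g : ℤ) {W W' : Submodule k N} (hW' : W' ≤ 𝒩 g) (h : W < W') :
    filt (r := r) 𝒩 g W < filt (r := r) 𝒩 g W' := by
  refine SetLike.lt_iff_le_and_exists.2 ⟨fun x hx => ⟨hx.1, h.le hx.2⟩, ?_⟩
  obtain ⟨x, hx', hx⟩ := SetLike.exists_of_lt h
  refine ⟨x, ⟨fun l hl => decompose_of_mem_ne 𝒩 (hW' hx') hl.ne', ?_⟩, fun hc => hx ?_⟩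
  · rw [decompose_of_mem_same 𝒩 (hW' hx')]; exact hx'
  · have := hc.2
    rwa [decompose_of_mem_same 𝒩 (hW' hx')] at this

theorem filt_succ_le (g : ℤ) : filt (r := r) 𝒩 (g + 1) (𝒩 (g + 1)) ≤ filt (r := r) 𝒩 g ⊥ :=
  fun x hx => ⟨fun h hh => hx.1 h (by omega), by rw [hx.1 g (by omega)]; exact zero_mem _⟩

theorem height_filt (g : ℤ) :
    Order.height (filt (r := r) 𝒩 (g + 1) (𝒩 (g + 1))) + (Module.finrank k (𝒩 g) : ℕ∞) ≤
      Order.height (filt (r := r) 𝒩 g (𝒩 g)) := by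
  have hD : (Module.finrank k (𝒩 g) : ℕ∞) ≤ Order.height (⊤ : Submodule k (𝒩 g)) := by
    rw [← Module.length_eq_height]
    by_cases hfin : Module.Finite k (𝒩 g)
    · rw [Module.length_eq_finrank]
    · rw [Module.finrank_of_not_finite hfin]; exact zero_le
  obtain ⟨p, hp, hlen⟩ := Order.exists_series_of_le_height (⊤ : Submodule k (𝒩 g)) hD
  let F : Fin (p.length + 1) → Submodule S N := fun i => filt (r := r) 𝒩 g ((p i).map (𝒩 g).subtype)
  have hstep : ∀ i : ℕ, ∀ hi : i < p.length + 1,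
      Order.height (filt (r := r) 𝒩 (g + 1) (𝒩 (g + 1))) + (i : ℕ∞) ≤ Order.height (F ⟨i, hi⟩) := by
    intro i
    induction i with
    | zero =>
      intro hi
      rw [Nat.cast_zero, add_zero]
      refine Order.height_mono ((filt_succ_le 𝒩 g).trans ?_)
      exact fun x hx => ⟨hx.1, (bot_le : ⊥ ≤ (p ⟨0, hi⟩).map (𝒩 g).subtype) hx.2⟩
    | succ i ih =>
      intro hi
      have hlt : F ⟨i, by omega⟩ < F ⟨i + 1, hi⟩ :=
        filt_lt 𝒩 g (Submodule.map_subtype_le _ _)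
          (Submodule.map_strictMono_of_injective (Submodule.subtype_injective _) (p.step ⟨i, by omega⟩))
      refine le_trans ?_ (Order.height_add_one_le hlt)
      rw [Nat.cast_succ, ← add_assoc]
      exact add_le_add (ih (by omega)) le_rfl
  have h := hstep p.length (Nat.lt_succ_self _)
  refine (add_le_add le_rfl (le_of_eq ?_)).trans (h.trans (le_of_eq (congrArg _ ?_)))
  · rw [hlen]
  show filt (r := r) 𝒩 g ((p ⟨p.length, _⟩).map (𝒩 g).subtype) = _
  rw [show p ⟨p.length, Nat.lt_succ_self _⟩ = ⊤ from hp, Submodule.map_subtype_top]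

theorem height_filt_le (g : ℤ) (W : Submodule k N) (ℓ : ℕ) (hℓ : Module.length S N = (ℓ : ℕ∞)) :
    Order.height (filt (r := r) 𝒩 g W) ≤ (ℓ : ℕ∞) := by
  rw [← hℓ, Module.length_eq_height]
  exact Order.height_mono le_top

theorem proj_ringPieces (a : S) (g : ℤ) : proj (ringPieces 𝒢) g a = (decompose 𝒢 a g : S) := by
  induction a using DirectSum.Decomposition.inductionOn 𝒢 with
  | zero => simp
  | @homogeneous b y =>
    by_cases hb : b = g
    · subst hb
      rw [decompose_of_mem_same 𝒢 y.2]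
      exact proj_of_mem (ringPieces 𝒢) y.2
    · rw [decompose_of_mem_ne 𝒢 y.2 hb]
      exact proj_of_mem_ne (ringPieces 𝒢) y.2 hb
  | add a b ha hb => rw [map_add, ha, hb, decompose_add, DirectSum.add_apply, Submodule.coe_add]

/-- In a module generated in degree zero the pieces past a zero one vanish. -/
theorem piece_succ_eq_bot (ρ : MvPolynomial (Fin (r + 1)) k →ₗ[MvPolynomial (Fin (r + 1)) k] N)
    (hρ : GrLC.IsGrHom (GrSyz.stdGr k (Fin (r + 1))) 𝒩 ρ) (hsurj : Function.Surjective ρ)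
    {g : ℤ} (hg : 0 ≤ g) (h : 𝒩 g = ⊥) : 𝒩 (g + 1) = ⊥ := by
  refine (Submodule.eq_bot_iff _).2 fun y hy => ?_
  obtain ⟨p, hp, rfl⟩ := exists_preimage_piece (ringPieces 𝒢) (addG 𝒢 𝒩).gr ((isGrHom_iff _ _).1
    (show GrLC.IsGrHom (ringPieces 𝒢) (addG 𝒢 𝒩).gr ρ from hρ)) (g := g + 1) (by rw [add_zero]; exact hy) (hsurj y)
  have hp' : p ∈ 𝒢 (g + 1) := hp
  have hm : p ∈ 𝔪 := Ideal.subset_span ⟨g + 1, by omega, hp'⟩
  rw [← sum_divFirst hm, map_sum]
  refine Finset.sum_eq_zero fun v _ => ?_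
  have h0 : ρ (divFirst v p) ∈ 𝒩 g := hρ g _ (by simpa using divFirst_mem v hp')
  rw [h, Submodule.mem_bot] at h0
  rw [← smul_eq_mul]
  exact (map_smul ρ _ _).trans (smul_eq_zero_of_right _ h0)

theorem piece_neg_eq_bot (ρ : MvPolynomial (Fin (r + 1)) k →ₗ[MvPolynomial (Fin (r + 1)) k] N)
    (hρ : GrLC.IsGrHom (GrSyz.stdGr k (Fin (r + 1))) 𝒩 ρ) (hsurj : Function.Surjective ρ)
    {g : ℤ} (hg : g < 0) : 𝒩 g = ⊥ := by
  refine (Submodule.eq_bot_iff _).2 fun y hy => ?_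
  obtain ⟨p, hp, rfl⟩ := exists_preimage_piece (ringPieces 𝒢) (addG 𝒢 𝒩).gr ((isGrHom_iff _ _).1
    (show GrLC.IsGrHom (ringPieces 𝒢) (addG 𝒢 𝒩).gr ρ from hρ)) (g := g) (by rw [add_zero]; exact hy) (hsurj y)
  exact (congrArg ρ (hpos g hg p hp)).trans (map_zero ρ)

theorem gam_eq_top_of_filt {G : ℤ}
    (hG : ∀ g, G ≤ g → 𝒩 g = ⊥) (hneg : ∀ g, g < 0 → 𝒩 g = ⊥) : GrLC.gam 𝔪 N = ⊤ := by
  have key : ∀ n : ℕ, 𝔪 ^ n • (⊤ : Submodule S N) ≤ filt (r := r) 𝒩 (n : ℤ) (𝒩 (n : ℤ)) := by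
    intro n
    induction n with
    | zero =>
      intro x _
      refine ⟨fun h hh => ?_, Subtype.mem _⟩
      exact (Submodule.eq_bot_iff _).1 (hneg h (by simpa using hh)) _ (Subtype.mem _)
    | succ n ih =>
      rw [pow_succ', Submodule.mul_smul]
      refine (Submodule.smul_mono le_rfl ih).trans ?_
      rw [irrel_eq_X, Submodule.smul_le]
      intro p hp x hx
      induction hp using Submodule.span_induction with
      | mem q hq =>
        obtain ⟨v, -, rfl⟩ := hq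
        refine ⟨fun h hh => ?_, Subtype.mem _⟩
        rw [comp_X_smul 𝒩, hx.1 (h - 1) (by push_cast at hh; omega), smul_zero]
      | zero => rw [zero_smul]; exact zero_mem _
      | add a b _ _ ha hb => rw [add_smul]; exact add_mem ha hb
      | smul a b _ hb => rw [smul_eq_mul, mul_smul]; exact Submodule.smul_mem _ a hb
  refine eq_top_iff.2 fun x _ => ⟨G.toNat, fun t ht => ?_⟩
  obtain ⟨h1, -⟩ := key G.toNat (Submodule.smul_mem_smul ht (Submodule.mem_top : x ∈ ⊤))
  classical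
  rw [← sum_support_decompose 𝒩 (t • x)]
  refine Finset.sum_eq_zero fun h _ => ?_
  by_cases hh : h < (G.toNat : ℤ)
  · exact h1 h hh
  · exact (Submodule.eq_bot_iff _).1 (hG h (by omega)) _ (Subtype.mem _)

/-- The algebraic core of the degree bound: the top degree of a cyclic module of length `ℓ`. -/
theorem exists_top_degree (ρ : MvPolynomial (Fin (r + 1)) k →ₗ[MvPolynomial (Fin (r + 1)) k] N)
    (hρ : GrLC.IsGrHom (GrSyz.stdGr k (Fin (r + 1))) 𝒩 ρ) (hsurj : Function.Surjective ρ)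
    (ℓ : ℕ) (hℓ : Module.length (MvPolynomial (Fin (r + 1)) k) N = (ℓ : ℕ∞)) :
    ∃ G : ℕ, (∀ g : ℤ, (G : ℤ) ≤ g → 𝒩 g = ⊥) ∧ G + Module.finrank k (𝒩 1) ≤ ℓ + 1 := by
  classical
  haveI : ∀ g, Module.Finite k (𝒩 g) := fun g => by
    haveI := finite_stdGr (k := k) (r := r) g
    have : (𝒢 g).map (ρ.restrictScalars k) = 𝒩 g := by
      refine le_antisymm (Submodule.map_le_iff_le_comap.2 fun p hp => hρ g p hp) fun y hy => ?_
      obtain ⟨p, hp, rfl⟩ := exists_preimage_piece (ringPieces 𝒢) (addG 𝒢 𝒩).gr ((isGrHom_iff _ _).1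
        (show GrLC.IsGrHom (ringPieces 𝒢) (addG 𝒢 𝒩).gr ρ from hρ)) (g := g) (by rw [add_zero]; exact hy) (hsurj y)
      exact ⟨p, hp, rfl⟩
    rw [← this]
    exact Module.Finite.map _ _
  -- sums of dimensions are bounded by the length
  have hsum : ∀ (n : ℕ) (g : ℤ), ((∑ i ∈ Finset.range n, Module.finrank k (𝒩 (g + i)) : ℕ) : ℕ∞) ≤
      Order.height (filt (r := r) 𝒩 g (𝒩 g)) := by
    intro n
    induction n with
    | zero => intro g; simp
    | succ n ih =>
      intro g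
      rw [Finset.sum_range_succ']
      refine le_trans ?_ (height_filt 𝒩 g)
      rw [Nat.cast_add]
      refine add_le_add ?_ (le_of_eq (by rw [show g + ((0 : ℕ) : ℤ) = g from add_zero g]))
      refine le_trans (le_of_eq ?_) (ih (g + 1))
      refine congrArg _ (Finset.sum_congr rfl fun i _ => ?_)
      rw [show g + ((i + 1 : ℕ) : ℤ) = g + 1 + i by push_cast; ring]
  have hpos' : ∀ g : ℤ, 𝒩 g ≠ ⊥ → 1 ≤ Module.finrank k (𝒩 g) := fun g hg => by
    haveI : Nontrivial (𝒩 g) := Submodule.nontrivial_iff_ne_bot.2 hg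
    exact Module.finrank_pos
  have hex : ∃ n : ℕ, 𝒩 (n : ℤ) = ⊥ := by
    by_contra hne
    simp only [not_exists] at hne
    have h := (hsum (ℓ + 1) 0).trans (height_filt_le 𝒩 0 _ ℓ hℓ)
    rw [Nat.cast_le] at h
    have : ∑ _i ∈ Finset.range (ℓ + 1), 1 ≤ ∑ i ∈ Finset.range (ℓ + 1), Module.finrank k (𝒩 ((0 : ℤ) + i)) :=
      Finset.sum_le_sum fun i _ => by rw [zero_add]; exact hpos' _ (hne i)
    simp only [Finset.sum_const, Finset.card_range, smul_eq_mul, mul_one] at this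
    omega
  let G := Nat.find hex
  have hvan : ∀ m : ℕ, 𝒩 ((G + m : ℕ) : ℤ) = ⊥ := by
    intro m
    induction m with
    | zero => exact Nat.find_spec hex
    | succ m ih =>
      rw [show ((G + (m + 1) : ℕ) : ℤ) = ((G + m : ℕ) : ℤ) + 1 by push_cast; ring]
      exact piece_succ_eq_bot 𝒩 ρ hρ hsurj (Int.natCast_nonneg _) ih
  have hvan' : ∀ g : ℤ, (G : ℤ) ≤ g → 𝒩 g = ⊥ := fun g hg => by
    have := hvan (g.toNat - G)
    rwa [show ((G + (g.toNat - G) : ℕ) : ℤ) = g by omega] at this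
  refine ⟨G, hvan', ?_⟩
  rcases Nat.lt_or_ge G 2 with hG | hG
  · rw [show 𝒩 1 = ⊥ from hvan' 1 (by omega), finrank_bot]
    omega
  have hne : ∀ i : ℕ, i < G → 𝒩 (i : ℤ) ≠ ⊥ := fun i hi => Nat.find_min hex hi
  have h := (hsum G 0).trans (height_filt_le 𝒩 0 _ ℓ hℓ)
  rw [Nat.cast_le] at h
  obtain ⟨m, hm⟩ : ∃ m, G = m + 2 := ⟨G - 2, by omega⟩
  rw [hm, Finset.sum_range_succ', Finset.sum_range_succ', Finset.sum_congr rfl (fun (i : ℕ) _ => by
      rw [show (0 : ℤ) + ((i + 1 + 1 : ℕ) : ℤ) = ((i + 1 + 1 : ℕ) : ℤ) from zero_add _]),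
    show (0 : ℤ) + ((0 + 1 : ℕ) : ℤ) = 1 from rfl, show (0 : ℤ) + ((0 : ℕ) : ℤ) = ((0 : ℕ) : ℤ) from rfl] at h
  have h2 : ∑ _i ∈ Finset.range m, 1 ≤ ∑ i ∈ Finset.range m, Module.finrank k (𝒩 ((i + 1 + 1 : ℕ) : ℤ)) :=
    Finset.sum_le_sum fun i hi => hpos' _ (hne _ (by rw [Finset.mem_range] at hi; omega))
  simp only [Finset.sum_const, Finset.card_range, smul_eq_mul, mul_one] at h2
  have h3 := hpos' _ (hne 0 (by omega))
  omega

variable {M : Type u} [AddCommGroup M] [Module k M] [Module (MvPolynomial (Fin (r + 1)) k) M]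
  [IsScalarTower k (MvPolynomial (Fin (r + 1)) k) M] [Module.Finite (MvPolynomial (Fin (r + 1)) k) M]
  {ℳ : ℤ → Submodule k M} [Decomposition ℳ] [SetLike.GradedSMul (GrSyz.stdGr k (Fin (r + 1))) ℳ]

theorem reg_add_le (π : MvPolynomial (Fin (r + 1)) k →ₗ[MvPolynomial (Fin (r + 1)) k] M)
    (hπ : Function.Surjective π) (hπg : GrLC.IsGrHom (GrSyz.stdGr k (Fin (r + 1))) ℳ π)
    (hlin : ∀ x : MvPolynomial (Fin (r + 1)) k, x ∈ GrSyz.stdGr k (Fin (r + 1)) 1 → π x = 0 → x = 0)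
    (ys : List (MvPolynomial (Fin (r + 1)) k)) (hys : ∀ y ∈ ys, y ∈ GrSyz.stdGr k (Fin (r + 1)) 1)
    (hreg : RingTheory.Sequence.IsWeaklyRegular M ys)
    (σ : M →ₗ[MvPolynomial (Fin (r + 1)) k] N) (hσ : Function.Surjective σ) (hσg : GrLC.IsGrHom ℳ 𝒩 σ)
    (hker : LinearMap.ker σ = Ideal.ofList ys • (⊤ : Submodule (MvPolynomial (Fin (r + 1)) k) M))
    (ℓ : ℕ) (hℓ : Module.length (MvPolynomial (Fin (r + 1)) k) N = (ℓ : ℕ∞)) :
    GrSyz.reg (GrSyz.stdGr k (Fin (r + 1))) ℳ (GrSyz.irrel (GrSyz.stdGr k (Fin (r + 1)))).toIdeal +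
        ((((r : ℤ) + 1 - (ys.length : ℤ) : ℤ) : WithTop ℤ) : WithBot (WithTop ℤ)) ≤
      (((ℓ : ℤ) : WithTop ℤ) : WithBot (WithTop ℤ)) := by
  classical
  let ρ := σ.comp π
  have hρ : GrLC.IsGrHom 𝒢 𝒩 ρ := fun g p hp => hσg g _ (hπg g p hp)
  have hsurj : Function.Surjective ρ := hσ.comp hπ
  obtain ⟨G, hG, hGℓ⟩ := exists_top_degree 𝒩 ρ hρ hsurj ℓ hℓ
  -- the piece of degree one
  have hD : r + 1 ≤ Module.finrank k (𝒩 1) + ys.length := by
    have hmap : (𝒢 1).map (ρ.restrictScalars k) = 𝒩 1 := by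
      refine le_antisymm (Submodule.map_le_iff_le_comap.2 fun p hp => hρ 1 p hp) fun y hy => ?_
      obtain ⟨p, hp, rfl⟩ := exists_preimage_piece (ringPieces 𝒢) (addG 𝒢 𝒩).gr ((isGrHom_iff _ _).1
        (show GrLC.IsGrHom (ringPieces 𝒢) (addG 𝒢 𝒩).gr ρ from hρ)) (g := 1) (by rw [add_zero]; exact hy) (hsurj y)
      exact ⟨p, hp, rfl⟩
    have hkerle : 𝒢 1 ⊓ LinearMap.ker (ρ.restrictScalars k) ≤ Submodule.span k (Set.range ys.get) := by
      rintro x ⟨hx, hx0⟩
      have hx1 : π x ∈ LinearMap.ker σ := hx0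
      rw [hker, ← LinearMap.range_eq_top.2 hπ, LinearMap.range_eq_map, ← Submodule.map_smul''] at hx1
      obtain ⟨a, ha, hax⟩ := hx1
      rw [smul_eq_mul, SetLike.mem_coe, Ideal.mul_top] at ha
      have hxa : x = (decompose 𝒢 a 1 : S) := by
        refine sub_eq_zero.1 (hlin _ (sub_mem hx (Subtype.mem _)) ?_)
        have h1 := proj_map (ringPieces 𝒢) (addG 𝒢 ℳ).gr
          ((isGrHom_iff _ _).1 (show GrLC.IsGrHom (ringPieces 𝒢) (addG 𝒢 ℳ).gr π from hπg)) a 1
        rw [add_zero] at h1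
        refine (map_sub π _ _).trans (sub_eq_zero.2 ?_)
        exact ((proj_of_mem (addG 𝒢 ℳ).gr (hπg 1 x hx)).symm.trans ((congrArg (proj (addG 𝒢 ℳ).gr 1) hax.symm).trans (h1.trans (congrArg π (proj_ringPieces a 1)))))
      rw [hxa]
      obtain ⟨c, hc⟩ : ∃ c : Fin ys.length → S, ∑ i, c i • ys.get i = a := by
        rw [Ideal.ofList, ← Set.range_list_get] at ha
        exact Submodule.mem_span_range_iff_exists_fun S |>.1 ha
      rw [← hc, decompose_sum, DFinsupp.finsetSum_apply, Submodule.coe_sum]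
      refine Submodule.sum_mem _ fun i _ => ?_
      have hy := hys _ (List.get_mem ys i)
      have h2 : (decompose 𝒢 (c i • ys.get i) 1 : S) = (decompose 𝒢 (c i) 0 : S) * ys.get i := by
        rw [smul_eq_mul, show (1 : ℤ) = 0 + 1 from (zero_add 1).symm]
        exact DirectSum.coe_decompose_mul_add_of_right_mem 𝒢 (i := 0) (by simpa using hy)
      rw [h2]
      have hc0 : (decompose 𝒢 (c i) 0 : S) = MvPolynomial.C (MvPolynomial.coeff 0 (decompose 𝒢 (c i) 0 : S)) := by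
        ext m
        rw [MvPolynomial.coeff_C]
        split_ifs with hm
        · rw [← hm]
        · by_contra hne
          have hw := (decompose 𝒢 (c i) 0).2 hne
          rw [Finsupp.weight_apply, Finsupp.sum] at hw
          obtain ⟨j, hj⟩ := Finsupp.support_nonempty_iff.2 (Ne.symm hm)
          have h0 := (Finset.sum_eq_zero_iff_of_nonneg fun j _ => by positivity).1 hw j hj
          simp at h0
          exact Finsupp.mem_support_iff.1 hj h0
      rw [hc0, MvPolynomial.C_mul']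
      exact Submodule.smul_mem _ _ (Submodule.subset_span ⟨i, rfl⟩)
    haveI := finite_stdGr (k := k) (r := r) 1
    haveI : Module.Finite k (Submodule.span k (Set.range ys.get)) := Module.Finite.span_of_finite k (Set.finite_range _)
    have h := finrank_split (ρ.restrictScalars k) (𝒢 1)
    rw [hmap, finrank_stdGr] at h
    have h2 := (Submodule.finrank_mono hkerle).trans ((finrank_range_le_card _).trans (Fintype.card_fin _).le)
    rw [cnt, if_pos zero_le_one, show (1 : ℤ).toNat = 1 from rfl, Nat.choose_succ_self_right] at h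
    omega
  -- the regularity
  have hgam : GrLC.gam 𝔪 N = ⊤ := gam_eq_top_of_filt 𝒩 hG fun g hg => piece_neg_eq_bot 𝒩 ρ hρ hsurj hg
  have hN : IsReg 𝔞 (addG 𝒢 𝒩) ((G : ℤ) - 1) := by
    refine (isReg_of_torsion_iff (M := addG 𝒢 𝒩) hgam _).2 fun n hn x hx => ?_
    have hx' : x ∈ 𝒩 n := hx
    exact (Submodule.eq_bot_iff _).1 (hG n (by omega)) x hx'
  haveI : Module.Finite S (addG 𝒢 ℳ).carrier := inferInstanceAs (Module.Finite S M)
  have hM : IsReg 𝔞 (addG 𝒢 ℳ) ((G : ℤ) - 1) :=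
    ((isReg_quot_seq (𝒜 := 𝒢) hpos ha hhom ys hys (addG 𝒢 ℳ) (addG 𝒢 𝒩) σ hreg hσ hσg hker _).2 hN)
  refine (add_le_add ((reg_le_iff ((G : ℤ) - 1)).2 hM) le_rfl).trans ?_
  rw [← WithBot.coe_add, WithBot.coe_le_coe, ← WithTop.coe_add, WithTop.coe_le_coe]
  omega

end Groth.Agent.GrSyzLib
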