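import Mathlib
import Groth.Agent.GrSyzLib.Koszul

/-!
# Vanishing of Betti numbers from bounds on the generators of the tensor syzygy modules
-/

set_option autoImplicit false
set_option linter.unusedSectionVars false
universe u

open DirectSum GrInjLib GrInjLib.Poly

noncomputable section

namespace Groth.Agent.GrSyzLib

variable {k : Type u} [Field k] {r : ℕ}

local notation "S" => MvPolynomial (Fin (r + 1)) k
local notation "𝒢" => GrSyz.stdGr k (Fin (r + 1))
local notation "𝔪" => HomogeneousIdeal.toIdeal (GrSyz.irrel (GrSyz.stdGr k (Fin (r + 1))))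
local notation "ι₀" => Fin (r + 1)

/-- Koszul cycles in homological degree `q` and internal degree `j` are boundaries. -/
def KB (X : GrLC.GMod.{u} (GrSyz.stdGr k (Fin (r + 1)))) (q : ℕ) (j : ℤ) : Prop :=
  ∀ m : Finset (Fin (r + 1)) → X.carrier, (∀ J, J.card ≠ q → m J = 0) → (∀ J, J.card = q → m J ∈ X.gr (j - q)) →
    kd (k := k) m = 0 → ∃ n : Finset (Fin (r + 1)) → X.carrier, (∀ J, J.card ≠ q + 1 → n J = 0) ∧
      (∀ J, J.card = q + 1 → n J ∈ X.gr (j - (q + 1))) ∧ kd (k := k) n = m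

theorem kd_eq_zero_of_card {X : Type u} [AddCommGroup X] [Module S X] {q : ℕ} {m : Finset ι₀ → X}
    (h : ∀ J, J.card ≠ q → m J = 0) (J : Finset ι₀) (hJ : J.card + 1 ≠ q) : kd (k := k) m J = 0 :=
  Finset.sum_eq_zero fun v hv => by
    rw [h _ (by rw [Finset.card_insert_of_notMem (Finset.mem_compl.1 hv)]; exact hJ), smul_zero]

theorem ksgn_smul_mem (X : GrLC.GMod.{u} (GrSyz.stdGr k (Fin (r + 1)))) {u : Fin (r + 1)} {J : Finset (Fin (r + 1))}
    {g : ℤ} {x : X.carrier} (hx : x ∈ X.gr g) : ksgn (k := k) u J • x ∈ X.gr g := by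
  unfold ksgn
  rcases neg_one_pow_eq_or S (J.filter (· < u)).card with hs | hs <;> rw [hs]
  · rwa [one_smul]
  · rw [neg_one_smul]; exact neg_mem hx

theorem kd_mem (X : GrLC.GMod.{u} (GrSyz.stdGr k (Fin (r + 1)))) {q : ℕ} {g : ℤ} {m : Finset (Fin (r + 1)) → X.carrier}
    (h : ∀ J, J.card = q → m J ∈ X.gr g) (J : Finset (Fin (r + 1))) (hJ : J.card + 1 = q) :
    kd (k := k) m J ∈ X.gr (g + 1) := by
  refine sum_mem fun v hv => ?_
  rw [mul_smul]
  refine ksgn_smul_mem X ?_
  have := GrInjLib.smul_mem 𝒢 X.gr (X_mem v)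
    (h (insert v J) (by rw [Finset.card_insert_of_notMem (Finset.mem_compl.1 hv)]; exact hJ))
  rwa [show (1 : ℤ) + g = g + 1 from add_comm _ _] at this

/-- Descent along a minimal cover. -/
theorem kb_descend {A C : GrLC.GMod.{u} (GrSyz.stdGr k (Fin (r + 1)))} {n : ℕ} (e : Fin n → ℤ)
    (ι : A.carrier →ₗ[MvPolynomial (Fin (r + 1)) k] (freeG (𝒜 := GrSyz.stdGr k (Fin (r + 1))) e).carrier)
    (g : (freeG (𝒜 := GrSyz.stdGr k (Fin (r + 1))) e).carrier →ₗ[MvPolynomial (Fin (r + 1)) k] C.carrier)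
    (hι : GrLC.IsGrHom A.gr (freeG (𝒜 := GrSyz.stdGr k (Fin (r + 1))) e).gr ι)
    (hg : GrLC.IsGrHom (freeG (𝒜 := GrSyz.stdGr k (Fin (r + 1))) e).gr C.gr g)
    (hinj : Function.Injective ι) (hex : ∀ b, g b = 0 ↔ ∃ a, ι a = b) (hsurj : Function.Surjective g)
    (hmin : ∀ a b, ι a b ∈ 𝔪) {q : ℕ} {j : ℤ} (hC : KB C (q + 1) j) : KB A q j := by
  classical
  intro z hz hzd hcyc
  have hcoord : ∀ b : Fin n, ∃ w : Finset ι₀ → S, (∀ J, J.card ≠ q + 1 → w J = 0) ∧
      (∀ J, J.card = q + 1 → w J ∈ 𝒢 (j - q - e b - 1)) ∧ kd (k := k) w = fun J => ι (z J) b := by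
    intro b
    refine exists_kd_eq q (j - q - e b) (fun J => ι (z J) b) (fun J hJ => by rw [hz J hJ, map_zero]; rfl)
      (fun J hJ => mem_freePieces.1 (hι _ _ (hzd J hJ)) b) ?_ (hmin _ _)
    have h := kd_map (k := k) ((LinearMap.proj b).comp ι) z
    rw [hcyc] at h
    exact h.trans (funext fun J => map_zero _)
  choose w hw hwd hwk using hcoord
  let W : Finset ι₀ → (freeG (𝒜 := 𝒢) e).carrier := fun J b => w b J
  have hW : ∀ J, J.card ≠ q + 1 → W J = 0 := fun J hJ => funext fun b => hw b J hJ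
  have hWd : ∀ J, J.card = q + 1 → W J ∈ (freeG (𝒜 := 𝒢) e).gr (j - (q + 1)) := fun J hJ => mem_freePieces.2 fun b => by
    have := hwd b J hJ
    rwa [show j - q - e b - 1 = j - (q + 1) - e b by ring] at this
  have hWk : kd (k := k) W = fun J => ι (z J) := by
    funext J b
    have h := congrFun (kd_map (k := k) (LinearMap.proj (R := S) (φ := fun _ : Fin n => S) b) W) J
    exact h.symm.trans (congrFun (hwk b) J)
  have hgW : kd (k := k) (g ∘ W) = 0 := by
    rw [kd_map, hWk]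
    funext J
    exact (hex _).2 ⟨z J, rfl⟩
  obtain ⟨u, hu, hud, huk⟩ := hC (g ∘ W) (fun J hJ => by simp [hW J hJ])
    (fun J hJ => by push_cast; exact hg _ _ (hWd J hJ)) hgW
  have hlift : ∀ J : Finset ι₀, ∃ v : (freeG (𝒜 := 𝒢) e).carrier, g v = u J ∧ (J.card ≠ q + 2 → v = 0) ∧
      (J.card = q + 2 → v ∈ (freeG (𝒜 := 𝒢) e).gr (j - (q + 2))) := by
    intro J
    by_cases hJ : J.card = q + 2
    · have hy := hud J hJ
      push_cast at hy
      rw [show j - ((q : ℤ) + 1 + 1) = j - (q + 2) by ring] at hy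
      obtain ⟨v, hv, hgv⟩ := exists_preimage_piece (freeG (𝒜 := 𝒢) e).gr C.gr ((isGrHom_iff _ _).1 hg)
        (g := j - (q + 2)) (by rw [add_zero]; exact hy) (hsurj (u J))
      exact ⟨v, hgv, fun h => absurd hJ h, fun _ => hv⟩
    · exact ⟨0, by rw [map_zero, hu J (by omega)], fun _ => rfl, fun h => absurd h hJ⟩
  choose U hgU hU hUd using hlift
  have hga : ∀ J, g (W J - kd (k := k) U J) = 0 := by
    intro J
    rw [map_sub, sub_eq_zero]
    have h := congrFun (kd_map (k := k) g U) J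
    rw [show g ∘ U = u from funext hgU, huk] at h
    exact h
  have hpre : ∀ J : Finset ι₀, ∃ a : A.carrier, ι a = W J - kd (k := k) U J ∧ (J.card ≠ q + 1 → a = 0) ∧
      (J.card = q + 1 → a ∈ A.gr (j - (q + 1))) := by
    intro J
    by_cases hJ : J.card = q + 1
    · have hy : W J - kd (k := k) U J ∈ (freeG (𝒜 := 𝒢) e).gr (j - (q + 1)) := by
        refine sub_mem (hWd J hJ) ?_
        have := kd_mem (freeG (𝒜 := 𝒢) e) (q := q + 2) hUd J (by omega)
        rwa [show j - ((q : ℤ) + 2) + 1 = j - (q + 1) by ring] at this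
      obtain ⟨a, ha, hga'⟩ := exists_preimage_piece A.gr (freeG (𝒜 := 𝒢) e).gr ((isGrHom_iff _ _).1 hι)
        (g := j - (q + 1)) (by rw [add_zero]; exact hy) ((hex _).1 (hga J))
      exact ⟨a, hga', fun h => absurd hJ h, fun _ => ha⟩
    · exact ⟨0, by rw [map_zero, hW J hJ, kd_eq_zero_of_card hU J (by omega), sub_zero], fun _ => rfl,
        fun h => absurd h hJ⟩
  choose α hια hα hαd using hpre
  refine ⟨α, hα, hαd, funext fun J => hinj ?_⟩
  have h := congrFun (kd_map (k := k) ι α) J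
  rw [show ι ∘ α = W - kd (k := k) U from funext hια, kd_sub, kd_kd, sub_zero, hWk] at h
  exact h.symm

/-- The slot conditions defining the tensor syzygy modules. -/
def IsT {R : Type u} [AddCommGroup R] [Module (MvPolynomial (Fin (r + 1)) k) R] (i : ℕ)
    (f : (Fin i → Fin (r + 1)) → R) : Prop :=
  ∀ (s : Fin i) (c : Fin i → Fin (r + 1)), ∑ v : Fin (r + 1),
    (MvPolynomial.X v : MvPolynomial (Fin (r + 1)) k) • f (Function.update c s v) = 0

theorem isT_sum_smul {R : Type u} [AddCommGroup R] [Module S R] {i : ℕ} {κ : Type*} (t : Finset κ) (c : κ → S)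
    (f : κ → (Fin i → ι₀) → R) (hf : ∀ l ∈ t, IsT (k := k) i (f l)) : IsT (k := k) i (∑ l ∈ t, c l • f l) := by
  intro s w
  simp only [Finset.sum_apply, Pi.smul_apply, Finset.smul_sum, smul_comm (MvPolynomial.X _ : S)]
  rw [Finset.sum_comm]
  exact Finset.sum_eq_zero fun l hl => by rw [← Finset.smul_sum, hf l hl s w, smul_zero]

variable (Y : GrLC.GMod.{u} (GrSyz.stdGr k (Fin (r + 1))))

theorem exists_split (i : ℕ) (g b : ℤ) (hb : b < g) (x : (Fin i → Fin (r + 1)) → Y.carrier)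
    (hxd : ∀ c, x c ∈ Y.gr g)
    (hx : x ∈ Submodule.span (MvPolynomial (Fin (r + 1)) k) {m' : (Fin i → Fin (r + 1)) → Y.carrier |
      IsT (k := k) i m' ∧ ∃ d : ℤ, d ≤ b ∧ ∀ c, m' c ∈ Y.gr d}) :
    ∃ μ : Fin (r + 1) → (Fin i → Fin (r + 1)) → Y.carrier, (∀ v, IsT (k := k) i (μ v)) ∧
      (∀ v c, μ v c ∈ Y.gr (g - 1)) ∧ ∑ v, (MvPolynomial.X v : MvPolynomial (Fin (r + 1)) k) • μ v = x := by
  classical
  obtain ⟨N, f, gen, hsum⟩ := Submodule.mem_span_set'.1 hx
  choose d hd hdg using fun l => (gen l).2.2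
  let sc : Fin N → S := fun l => (decompose 𝒢 (f l) (g - d l) : S)
  have hproj : ∀ l c, proj Y.gr g (f l • (gen l : (Fin i → ι₀) → Y.carrier) c) = sc l • (gen l : (Fin i → ι₀) → Y.carrier) c := by
    intro l c
    suffices H : ∀ s : S, proj Y.gr g (s • (gen l : (Fin i → ι₀) → Y.carrier) c) =
        (decompose 𝒢 s (g - d l) : S) • (gen l : (Fin i → ι₀) → Y.carrier) c from H (f l)
    intro s
    induction s using DirectSum.Decomposition.inductionOn 𝒢 with
    | zero => rw [zero_smul, map_zero, decompose_zero]; exact (zero_smul S _).symm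
    | @homogeneous a y =>
      have hm := GrInjLib.smul_mem 𝒢 Y.gr y.2 (hdg l c)
      by_cases ha : a = g - d l
      · subst ha
        rw [decompose_of_mem_same 𝒢 y.2]
        rw [sub_add_cancel] at hm
        exact proj_of_mem Y.gr hm
      · rw [decompose_of_mem_ne 𝒢 y.2 ha, zero_smul]
        exact proj_of_mem_ne Y.gr hm (by omega)
    | add s t hs ht =>
      rw [add_smul, map_add, hs, ht, decompose_add, DirectSum.add_apply, Submodule.coe_add, add_smul]
  refine ⟨fun v => ∑ l, divFirst v (sc l) • (gen l : (Fin i → ι₀) → Y.carrier),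
    fun v => isT_sum_smul _ _ _ fun l _ => (gen l).2.1, fun v c => ?_, ?_⟩
  · simp only [Finset.sum_apply]
    refine sum_mem fun l _ => ?_
    have := GrInjLib.smul_mem 𝒢 Y.gr (divFirst_mem v (decompose 𝒢 (f l) (g - d l)).2) (hdg l c)
    rwa [show g - d l - 1 + d l = g - 1 by ring] at this
  · funext c
    simp only [Finset.smul_sum, smul_smul]
    rw [Finset.sum_comm]
    have hc : x c = ∑ l, sc l • (gen l : (Fin i → ι₀) → Y.carrier) c := by
      conv_lhs => rw [← proj_of_mem Y.gr (hxd c), ← hsum, Finset.sum_apply, map_sum]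
      exact Finset.sum_congr rfl fun l _ => hproj l c
    rw [hc, Finset.sum_apply]
    refine Finset.sum_congr rfl fun l _ => ?_
    rw [← Finset.sum_smul, Pi.smul_apply, sum_divFirst]
    have hpos' : 0 < g - d l := by have := hd l; omega
    exact Ideal.subset_span ⟨_, hpos', (decompose 𝒢 (f l) (g - d l)).2⟩

/-- One step of the double induction. -/
theorem cycles_step (p : ℕ) (j : ℤ) (q i : ℕ) (hiq : i + q = p)
    (hgen : ∀ x : (Fin i → Fin (r + 1)) → Y.carrier, IsT (k := k) i x →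
      x ∈ Submodule.span (MvPolynomial (Fin (r + 1)) k) {m' : (Fin i → Fin (r + 1)) → Y.carrier |
        IsT (k := k) i m' ∧ ∃ d : ℤ, d ≤ j - p - 1 ∧ ∀ c, m' c ∈ Y.gr d})
    (hcorr : ∀ η : Finset (Fin (r + 1)) → (Fin (i + 1) → Fin (r + 1)) → Y.carrier,
      (∀ J, J.card + 1 ≠ q → η J = 0) →
      (∀ J, J.card + 1 = q → IsT (k := k) (i + 1) (η J) ∧ ∀ c, η J c ∈ Y.gr (j - p)) →
      kd (k := k) η = 0 →
      ∃ ν : Finset (Fin (r + 1)) → (Fin (i + 1) → Fin (r + 1)) → Y.carrier, (∀ J, J.card ≠ q → ν J = 0) ∧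
        (∀ J, J.card = q → IsT (k := k) (i + 1) (ν J) ∧ ∀ c, ν J c ∈ Y.gr (j - p - 1)) ∧ kd (k := k) ν = η)
    (m : Finset (Fin (r + 1)) → (Fin i → Fin (r + 1)) → Y.carrier)
    (hm : ∀ J, J.card ≠ q → m J = 0) (hmd : ∀ J, J.card = q → IsT (k := k) i (m J) ∧ ∀ c, m J c ∈ Y.gr (j - p))
    (hcyc : kd (k := k) m = 0) :
    ∃ n : Finset (Fin (r + 1)) → (Fin i → Fin (r + 1)) → Y.carrier, (∀ J, J.card ≠ q + 1 → n J = 0) ∧
      (∀ J, J.card = q + 1 → IsT (k := k) i (n J) ∧ ∀ c, n J c ∈ Y.gr (j - p - 1)) ∧ kd (k := k) n = m := by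
  classical
  have hsplit : ∀ J : Finset ι₀, ∃ μ : ι₀ → (Fin i → ι₀) → Y.carrier, (∀ v, IsT (k := k) i (μ v)) ∧
      (∀ v c, μ v c ∈ Y.gr (j - p - 1)) ∧ ∑ v, (MvPolynomial.X v : S) • μ v = m J ∧ (m J = 0 → μ = 0) := by
    intro J
    by_cases h0 : m J = 0
    · refine ⟨0, fun v s c => by simp, fun v c => zero_mem _, ?_, fun _ => rfl⟩
      simp [h0]
    · have hJ := hmd J (not_imp_comm.1 (hm J) h0)
      obtain ⟨μ, h1, h2, h3⟩ := exists_split Y i (j - p) (j - p - 1) (by omega) (m J) hJ.2 (hgen _ hJ.1)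
      exact ⟨μ, h1, h2, h3, fun h => absurd h h0⟩
  choose μ hμT hμd hμs hμ0 using hsplit
  let η : Finset ι₀ → (Fin (i + 1) → ι₀) → Y.carrier := fun J c => kd (k := k) (fun J => μ J (c 0)) J (Fin.tail c)
  have hη0 : ∀ J, J.card + 1 ≠ q → η J = 0 := fun J hJ => funext fun c => congrFun
    (kd_eq_zero_of_card (q := q) (fun J hJ => by rw [hμ0 J (hm J hJ)]; rfl) J hJ) _
  have hηT : ∀ J, IsT (k := k) (i + 1) (η J) := by
    intro J s c
    cases s using Fin.cases with
    | zero =>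
      have h := congrFun (congrFun hcyc J) (Fin.tail c)
      simp only [kd, ← hμs, Pi.zero_apply, Finset.sum_apply, Pi.smul_apply, Finset.smul_sum] at h
      rw [Finset.sum_comm] at h
      simp only [η, kd, Function.update_self, Fin.tail_update_zero, Finset.sum_apply, Pi.smul_apply,
        Finset.smul_sum]
      rw [← h]
      exact Finset.sum_congr rfl fun v _ => Finset.sum_congr rfl fun u _ => smul_comm _ _ _
    | succ s =>
      simp only [η, Fin.tail_update_succ, Function.update_of_ne (Fin.succ_ne_zero s).symm]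
      exact isT_sum_smul (k := k) _ _ _ (fun u _ => hμT _ (c 0)) s (Fin.tail c)
  have hηd : ∀ J c, η J c ∈ Y.gr (j - p) := by
    intro J c
    simp only [η, kd, Finset.sum_apply, Pi.smul_apply]
    refine sum_mem fun u _ => ?_
    rw [mul_smul]
    refine ksgn_smul_mem Y ?_
    have := GrInjLib.smul_mem 𝒢 Y.gr (X_mem u) (hμd (insert u J) (c 0) (Fin.tail c))
    rwa [show (1 : ℤ) + (j - p - 1) = j - p by ring] at this
  have hηk : kd (k := k) η = 0 := funext fun J => funext fun c => by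
    have h := congrFun (congrFun (kd_kd (k := k) fun J => μ J (c 0)) J) (Fin.tail c)
    simp only [kd, Finset.sum_apply, Pi.smul_apply, η] at h ⊢
    exact h
  obtain ⟨ν, hν0, hνd, hνk⟩ := hcorr η hη0 (fun J _ => ⟨hηT J, hηd J⟩) hηk
  have hνT : ∀ J, IsT (k := k) (i + 1) (ν J) ∧ ∀ c, ν J c ∈ Y.gr (j - p - 1) := fun J => by
    by_cases hJ : J.card = q
    · exact hνd J hJ
    · rw [hν0 J hJ]; exact ⟨fun s c => by simp, fun c => zero_mem _⟩
  let μ' : ι₀ → Finset ι₀ → (Fin i → ι₀) → Y.carrier := fun v J c => μ J v c - ν J (Fin.cons v c)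
  have hμ'T : ∀ v J, IsT (k := k) i (μ' v J) := fun v J s c => by
    simp only [μ', smul_sub, Finset.sum_sub_distrib, Fin.cons_update]
    rw [hμT J v s c, (hνT J).1 s.succ (Fin.cons v c), sub_zero]
  have hμ'd : ∀ v J c, μ' v J c ∈ Y.gr (j - p - 1) := fun v J c => sub_mem (hμd J v c) ((hνT J).2 _)
  have hμ'0 : ∀ v J, J.card ≠ q → μ' v J = 0 := fun v J hJ => funext fun c => by
    simp only [μ']
    rw [hμ0 J (hm J hJ), hν0 J hJ]
    simp
  have hμ'k : ∀ v, kd (k := k) (μ' v) = 0 := fun v => funext fun J => funext fun c => by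
    have h := congrFun (congrFun hνk J) (Fin.cons v c)
    simp only [kd, Finset.sum_apply, Pi.smul_apply, η, Fin.cons_zero, Fin.tail_cons] at h
    simp only [μ', kd, Finset.sum_apply, Pi.smul_apply, smul_sub, Finset.sum_sub_distrib, Pi.zero_apply]
    rw [h, sub_self]
  have hμ's : ∀ J, ∑ v, (MvPolynomial.X v : S) • μ' v J = m J := fun J => funext fun c => by
    simp only [μ', Finset.sum_apply, Pi.smul_apply, smul_sub, Finset.sum_sub_distrib]
    have h := (hνT J).1 0 (Fin.cons (0 : ι₀) c)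
    simp only [Fin.update_cons_zero] at h
    rw [h, sub_zero, ← hμs J]
    simp only [Finset.sum_apply, Pi.smul_apply]
  refine ⟨kwedge (k := k) μ', fun J hJ => Finset.sum_eq_zero fun v hv => ?_,
    fun J _ => ⟨isT_sum_smul _ _ _ fun v _ => hμ'T v _, fun c => ?_⟩, ?_⟩
  · have hc : (J.erase v).card + 1 = J.card := Finset.card_erase_add_one hv
    rw [hμ'0 v _ (by omega), smul_zero]
  · simp only [kwedge, Finset.sum_apply, Pi.smul_apply]
    exact sum_mem fun v _ => ksgn_smul_mem Y (hμ'd v _ c)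
  · rw [kd_kwedge μ' hμ'k]
    exact funext hμ's

/-- The double induction. -/
theorem cycles_bound (p : ℕ) (j : ℤ)
    (hgen : ∀ i : ℕ, i ≤ p → ∀ x : (Fin i → Fin (r + 1)) → Y.carrier, IsT (k := k) i x →
      x ∈ Submodule.span (MvPolynomial (Fin (r + 1)) k) {m' : (Fin i → Fin (r + 1)) → Y.carrier |
        IsT (k := k) i m' ∧ ∃ d : ℤ, d ≤ j - p - 1 ∧ ∀ c, m' c ∈ Y.gr d}) :
    ∀ q i : ℕ, i + q = p → ∀ m : Finset (Fin (r + 1)) → (Fin i → Fin (r + 1)) → Y.carrier,
      (∀ J, J.card ≠ q → m J = 0) → (∀ J, J.card = q → IsT (k := k) i (m J) ∧ ∀ c, m J c ∈ Y.gr (j - p)) →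
      kd (k := k) m = 0 →
      ∃ n : Finset (Fin (r + 1)) → (Fin i → Fin (r + 1)) → Y.carrier, (∀ J, J.card ≠ q + 1 → n J = 0) ∧
        (∀ J, J.card = q + 1 → IsT (k := k) i (n J) ∧ ∀ c, n J c ∈ Y.gr (j - p - 1)) ∧ kd (k := k) n = m := by
  intro q
  induction q with
  | zero =>
    intro i hiq
    refine cycles_step Y p j 0 i hiq (hgen i (by omega)) fun η hη _ _ => ⟨0, fun J _ => rfl,
      fun J _ => ⟨fun s c => by simp, fun c => zero_mem _⟩, ?_⟩
    rw [kd_zero]
    exact funext fun J => (hη J (Nat.succ_ne_zero _)).symm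
  | succ q ih =>
    intro i hiq
    refine cycles_step Y p j (q + 1) i hiq (hgen i (by omega)) fun η hη hηd hηk => ?_
    exact ih (i + 1) (by omega) η (fun J hJ => hη J (by omega)) (fun J hJ => hηd J (by omega)) hηk

theorem kb_of_generated (p : ℕ) (j : ℤ)
    (hgen : ∀ i : ℕ, i ≤ p → ∀ x : (Fin i → Fin (r + 1)) → Y.carrier, IsT (k := k) i x →
      x ∈ Submodule.span (MvPolynomial (Fin (r + 1)) k) {m' : (Fin i → Fin (r + 1)) → Y.carrier |
        IsT (k := k) i m' ∧ ∃ d : ℤ, d ≤ j - p - 1 ∧ ∀ c, m' c ∈ Y.gr d}) : KB Y p j := by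
  intro m hm hmd hcyc
  obtain ⟨n, hn, hnd, hnk⟩ := cycles_bound Y p j hgen p 0 (zero_add p) (fun J _ => m J)
    (fun J hJ => funext fun _ => hm J hJ) (fun J hJ => ⟨fun s => s.elim0, fun _ => hmd J hJ⟩)
    (funext fun J => funext fun c => by
      have h := congrFun hcyc J
      simp only [kd, Finset.sum_apply, Pi.smul_apply] at h ⊢
      exact h)
  refine ⟨fun J => n J Fin.elim0, fun J hJ => congrFun (hn J hJ) _, fun J hJ => ?_, funext fun J => ?_⟩
  · rw [← sub_sub]; exact (hnd J hJ).2 _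
  · have h := congrFun (congrFun hnk J) Fin.elim0
    simp only [kd, Finset.sum_apply, Pi.smul_apply] at h ⊢
    exact h

variable {Y}

theorem exists_split_of_kb_zero {j : ℤ} (hA : KB Y 0 j) {x : Y.carrier} (hx : x ∈ Y.gr j) :
    ∃ w : Fin (r + 1) → Y.carrier, ∑ v, (MvPolynomial.X v : MvPolynomial (Fin (r + 1)) k) • w v = x := by
  classical
  obtain ⟨n, -, -, hnk⟩ := hA (Pi.single ∅ x) (fun J hJ => Pi.single_eq_of_ne (fun h : J = ∅ => hJ (by rw [h, Finset.card_empty])) _)
    (fun J hJ => by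
      rw [Finset.card_eq_zero.1 hJ, Pi.single_eq_same]
      simpa using hx)
    (funext fun J => kd_eq_zero_of_card (q := 0) (fun J hJ => Pi.single_eq_of_ne (fun h : J = ∅ => hJ (by rw [h, Finset.card_empty])) _) J
      (Nat.succ_ne_zero _))
  refine ⟨fun v => n (insert v ∅), ?_⟩
  have h := congrFun hnk ∅
  rw [Pi.single_eq_same, kd, Finset.compl_empty] at h
  rw [← h]
  exact Finset.sum_congr rfl fun v _ => by simp [ksgn]

theorem betti_eq_zero_of_kb (G : GrSyz.FreeRes (GrSyz.stdGr k (Fin (r + 1))) Y.gr) (hG : G.IsMinimal 𝔪)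
    (p : ℕ) (j : ℤ) (hY : KB Y p j) : G.betti p j = 0 := by
  refine Finset.card_eq_zero.2 (Finset.filter_eq_empty_iff.2 fun b _ hb => ?_)
  have hsingle : (Pi.single b 1 : Fin (G.rk p) → S) ∈ (freeG (𝒜 := 𝒢) (G.deg p)).gr j :=
    single_mem_freePieces _ b (by rw [hb, sub_self]; exact SetLike.one_mem_graded _)
  have hkey : ∃ v : Fin (G.rk p) → S, v b ∈ 𝔪 ∧ (Pi.single b 1 - v : Fin (G.rk p) → S) ∈ LinearMap.range (G.dLin p) := by
    cases p with
    | zero =>
      obtain ⟨w, hw⟩ := exists_split_of_kb_zero hY (aug_grHom G j _ hsingle)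
      choose l hl using fun v => G.aug_surjective (w v)
      refine ⟨∑ v, (MvPolynomial.X v : S) • l v, ?_, ?_⟩
      · rw [Finset.sum_apply]
        exact sum_mem fun v _ => Ideal.mul_mem_right _ _ (Ideal.subset_span ⟨1, one_pos, X_mem v⟩)
      · rw [← G.exact_zero, LinearMap.mem_ker, map_sub, map_sum, ← hw, sub_eq_zero]
        exact Finset.sum_congr rfl fun v _ => by rw [map_smul, hl]
    | succ p =>
      have hchain : ∀ i q : ℕ, i + q = p → KB (syz G i) q j := by
        intro i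
        induction i with
        | zero =>
          intro q hq
          rw [zero_add] at hq
          subst hq
          refine kb_descend (G.deg 0) (subIncl 𝒢 (freeG (𝒜 := 𝒢) (G.deg 0)).gr (range_d_homogeneous G 0))
            G.augLin (subIncl_grHom 𝒢 (freeG (𝒜 := 𝒢) (G.deg 0)).gr (range_d_homogeneous G 0))
            (aug_grHom G) (subIncl_injective _ _ _) (fun b => ?_) G.aug_surjective
            (fun a b => range_d_minimal hG 0 (subIncl_mem _ _ _ a) b) hY
          rw [← LinearMap.mem_range, range_subIncl]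
          exact SetLike.ext_iff.1 G.exact_zero b
        | succ i ih =>
          intro q hq
          refine kb_descend (G.deg (i + 1)) (subIncl 𝒢 (freeG (𝒜 := 𝒢) (G.deg (i + 1))).gr (range_d_homogeneous G (i + 1)))
            (toSyz G i) (subIncl_grHom 𝒢 (freeG (𝒜 := 𝒢) (G.deg (i + 1))).gr (range_d_homogeneous G (i + 1)))
            (toSyz_grHom G i) (subIncl_injective _ _ _) (fun b => ?_) (toSyz_surjective G i)
            (fun a b => range_d_minimal hG (i + 1) (subIncl_mem _ _ _ a) b) (ih (q + 1) (by omega))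
          rw [← LinearMap.mem_range, range_subIncl, ← ker_toSyz, LinearMap.mem_ker]
      obtain ⟨w, hw⟩ := exists_split_of_kb_zero (hchain p 0 rfl) (toSyz_grHom G p j _ hsingle)
      choose l hl using fun v => toSyz_surjective G p (w v)
      refine ⟨∑ v, (MvPolynomial.X v : S) • l v, ?_, ?_⟩
      · rw [Finset.sum_apply]
        exact sum_mem fun v _ => Ideal.mul_mem_right _ _ (Ideal.subset_span ⟨1, one_pos, X_mem v⟩)
      · rw [← ker_toSyz, LinearMap.mem_ker, map_sub, map_sum, ← hw, sub_eq_zero]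
        exact Finset.sum_congr rfl fun v _ => by rw [map_smul, hl]
  obtain ⟨v, hv, hv'⟩ := hkey
  have := range_d_minimal hG p hv' b
  rw [Pi.sub_apply, Pi.single_eq_same] at this
  exact one_notMem (by simpa using add_mem this hv)

end Groth.Agent.GrSyzLib
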