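import Groth.Agent.GrSyzLib.Sheaf
import Groth.Agent.GrTildeLib.Tensor
import Groth.Agent.GrTildeLib.Eventually
import Groth.Agent.CMRegLib.Reg
import Groth.Agent.CMRegLib.Koszul
import Groth.Agent.S10908
import Groth.Agent.REqLib.P1Irred

/-!
# The sheaves `M(n)~` of all levels: multiplication by the variables, global sections of free modules
-/

set_option autoImplicit false
set_option linter.unusedSectionVars false
set_option linter.style.haveILetI false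
set_option backward.isDefEq.respectTransparency false
set_option maxHeartbeats 800000
universe u

open DirectSum CategoryTheory CategoryTheory.Limits TopologicalSpace AlgebraicGeometry Opposite
open GrInjLib GrInjLib.Poly
open Groth.Agent.GrTildeLib

noncomputable section

namespace Groth.Agent.GrSyzLib

variable {k : Type u} [Field k] {r : ℕ}

local notation "S" => MvPolynomial (Fin (r + 1)) k
local notation "𝒢" => GrSyz.stdGr k (Fin (r + 1))
local notation "𝒜" => CohB1.polyGrading r k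
local notation "PS" => CohB1.ProjSpace r k

variable {M : Type u} [AddCommGroup M] [Module k M] [Module (MvPolynomial (Fin (r + 1)) k) M]
  {𝒩 : ℕ → Submodule k M} [SetLike.GradedSMul (CohB1.polyGrading r k) 𝒩]
variable {N : Type u} [AddCommGroup N] [Module k N] [Module (MvPolynomial (Fin (r + 1)) k) N]
  {𝒬 : ℕ → Submodule k N} [SetLike.GradedSMul (CohB1.polyGrading r k) 𝒬]

variable (𝒩) in
/-- A homogeneous element as a global section of its level. -/
def glSec {n : ℕ} {d : ℤ} (h : (n : ℤ) = d) (m : 𝒩 n) : Γ(GrTilde.tilde 𝒜 𝒩 d, ⊤) :=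
  frac 𝒜 𝒩 m (⟨1, SetLike.GradedOne.one_mem⟩ : 𝒜 0) d (by simp [h]) (le_of_eq (Proj.basicOpen_one 𝒜).symm)

local notation "gl" => glSec (k := k) (r := r)

theorem valAt_gl {n : ℕ} {d : ℤ} (h : (n : ℤ) = d) (m : 𝒩 n) (x : (⊤ : (PS).Opens)) :
    valAt (gl 𝒩 h m) x = LocalizedModule.mk m.1 1 := rfl

theorem gl_add {n : ℕ} {d : ℤ} (h : (n : ℤ) = d) (m m' : 𝒩 n) :
    gl 𝒩 h (m + m') = gl 𝒩 h m + gl 𝒩 h m' :=
  sect_ext fun x => by
    rw [valAt_add, valAt_gl, valAt_gl, valAt_gl, LocalizedModule.mk_add_mk]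
    simp

theorem gl_sum {n : ℕ} {d : ℤ} (h : (n : ℤ) = d) {ι : Type} (s : Finset ι) (m : ι → 𝒩 n) :
    gl 𝒩 h (∑ a ∈ s, m a) = ∑ a ∈ s, gl 𝒩 h (m a) :=
  map_sum (AddMonoidHom.mk' (gl 𝒩 h) (gl_add h)) m s

theorem gl_congr {n n' : ℕ} {d : ℤ} (h : (n : ℤ) = d) (h' : (n' : ℤ) = d) (m : 𝒩 n) (m' : 𝒩 n')
    (e : m.1 = m'.1) : gl 𝒩 h m = gl 𝒩 h' m' :=
  sect_ext fun x => by rw [valAt_gl, valAt_gl, e]

theorem tmap_gl (u : M →ₗ[MvPolynomial (Fin (r + 1)) k] N) (hu : IsDeg 𝒩 𝒬 u) {n : ℕ} {d : ℤ}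
    (h : (n : ℤ) = d) (m : 𝒩 n) :
    (tmap 𝒜 𝒩 𝒬 u hu d).app ⊤ (gl 𝒩 h m) = gl 𝒬 h ⟨u m, hu n m m.2⟩ :=
  sect_ext fun x => by
    rw [valAt_tmap, valAt_gl, valAt_gl]
    exact locMap_mk u x.1 _ _

theorem globalOf_eq_gl {n : ℕ} (m : 𝒩 n) :
    (show Γ(GrTilde.tilde 𝒜 𝒩 (n : ℤ), ⊤) from GrTilde.globalOf 𝒜 𝒩 m) = gl 𝒩 rfl m :=
  sect_ext fun x => by rw [valAt_gl]; rfl

/-- An injective map gives a monomorphism. -/
theorem mono_tmap (u : M →ₗ[MvPolynomial (Fin (r + 1)) k] N) (hu : IsDeg 𝒩 𝒬 u) (hinj : Function.Injective u)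
    (d : ℤ) : Mono (tmap 𝒜 𝒩 𝒬 u hu d) := by
  refine ⟨fun {Z} a b hab => Scheme.Modules.hom_ext _ _ fun V => ConcreteCategory.hom_ext _ _ fun z =>
    sect_ext fun x => ?_⟩
  have h := congrArg (fun t : Z ⟶ GrTilde.tilde 𝒜 𝒬 d => valAt (t.app V z) x) hab
  exact LocalizedModule.map_injective _ u hinj h

variable (r k) in
/-- A variable as a section of `O(1)` on an open. -/
def coordS (v : Fin (r + 1)) (V : (PS).Opens) : Γ(Twist.twist (CohB1.polyGrading r k) 1, V) :=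
  ProjTwistLib.frac 𝒜 (AmpleEmb.coordForm r k v) (⟨1, SetLike.GradedOne.one_mem⟩ : 𝒜 0) 1 (by simp)
    (le_top.trans (le_of_eq (Proj.basicOpen_one 𝒜).symm))

variable (𝒩) in
/-- Multiplication by a variable on sections. -/
def mulApp (v : Fin (r + 1)) (d : ℤ) (V : (PS).Opens) :
    Γ(GrTilde.tilde 𝒜 𝒩 (d - 1), V) →+ Γ(GrTilde.tilde 𝒜 𝒩 d, V) :=
  AddMonoidHom.mk' (fun g => actS (show (1 : ℤ) + (d - 1) = d by ring) (coordS k r v V) g)
    fun g g' => map_add ((actPairing 𝒜 𝒩 1 (d - 1) d (by ring)).f V (coordS k r v V)) g g'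

variable (𝒩) in
/-- Multiplication by a variable. -/
def mulTw (v : Fin (r + 1)) (d : ℤ) : GrTilde.tilde 𝒜 𝒩 (d - 1) ⟶ GrTilde.tilde 𝒜 𝒩 d :=
  ⟨PresheafOfModules.homMk
    { app := fun U => AddCommGrpCat.ofHom (mulApp 𝒩 v d U.unop)
      naturality := fun _ _ _ => rfl }
    fun U c g => (actPairing 𝒜 𝒩 1 (d - 1) d (by ring)).smul_right U.unop c (coordS k r v U.unop) g⟩

local notation "mulT" => mulTw (k := k) (r := r)

theorem valAt_mulT (v : Fin (r + 1)) (d : ℤ) {V : (PS).Opens} (g : Γ(GrTilde.tilde 𝒜 𝒩 (d - 1), V)) (x : V) :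
    valAt ((mulT 𝒩 v d).app V g) x =
      (Localization.mk (MvPolynomial.X v : MvPolynomial (Fin (r + 1)) k) 1 : Twist.Loc 𝒜 x.1) • valAt g x := by
  show valAt (actS (show (1 : ℤ) + (d - 1) = d by ring) (coordS k r v V) g) x = _
  rw [valAt_actS]
  rfl

theorem mulT_gl (v : Fin (r + 1)) {n : ℕ} {d : ℤ} (h : (n : ℤ) = d - 1) (h' : ((1 + n : ℕ) : ℤ) = d) (m : 𝒩 n) :
    (mulT 𝒩 v d).app ⊤ (gl 𝒩 h m) =
      gl 𝒩 h' ⟨(AmpleEmb.coordForm r k v).1 • m.1, SetLike.GradedSMul.smul_mem (AmpleEmb.coordForm r k v).2 m.2⟩ :=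
  sect_ext fun x => by
    rw [valAt_mulT, valAt_gl, valAt_gl, LocalizedModule.mk_smul_mk, one_mul]
    rfl

variable (𝒩) in
/-- The multiplication data of all levels. -/
def levels : ProjCoh.MulData PS (Fin (r + 1)) where
  U := AmpleEmb.stdOpen r k
  cover := AmpleEmb.iSup_stdOpen r k
  F d := GrTilde.tilde 𝒜 𝒩 d
  μ v d := mulT 𝒩 v d
  t i a := ProjCoh.ratioSec 𝒜 (AmpleEmb.coordForm r k i) (AmpleEmb.coordForm r k a)
  t_open _ _ := ProjCoh.basicOpen_ratioSec _ _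
  bij i d _ hx := ProjCoh.stalk_bijective_of_app (mulT 𝒩 i d) (fun O hO =>
    actS_frac_bijective (AmpleEmb.coordForm r k i) (⟨1, SetLike.GradedOne.one_mem⟩ : 𝒜 0)
      (show (1 : ℤ) + (d - 1) = d by ring) (show ((1 : ℕ) : ℤ) = ((0 : ℕ) : ℤ) + 1 by simp) (le_top.trans (le_of_eq (Proj.basicOpen_one 𝒜).symm)) hO) hx
  ratio i a d _ hx z := ProjCoh.stalk_ratio_of_app _ _ _ (fun V hV s => sect_ext fun x => by
    rw [valAt_smul, valAt_mulT, valAt_mulT, smul_smul]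
    refine congrArg (· • valAt s x) ?_
    show Localization.mk _ _ = HomogeneousLocalization.val (HomogeneousLocalization.mk _) * Localization.mk _ _
    rw [HomogeneousLocalization.val_mk, Localization.mk_mul, Localization.mk_eq_mk_iff, Localization.r_iff_exists]
    exact ⟨1, by simp [AmpleEmb.coordForm, mul_comm]⟩) hx z

theorem nonempty_level_iso (d : ℤ) : Nonempty (GrTilde.tilde 𝒜 𝒩 d ≅
    CohB1.tensorMod (GrTilde.tilde 𝒜 𝒩 0) (Twist.twistProjSpace r k d)) :=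
  nonempty_twistBy_iso 𝒩 d fun x => CMRegLib.hasUnit d x

theorem vanish_iff (d : ℤ) (i : ℕ) :
    Subsingleton (Coh.HH PS (GrTilde.tilde 𝒜 𝒩 d) i) ↔ CMRegLib.HT (GrTilde.tilde 𝒜 𝒩 0) d i := by
  obtain ⟨e⟩ := nonempty_level_iso (k := k) (r := r) (𝒩 := 𝒩) d
  exact ⟨fun h => @ProjCoh.subsingleton_of_iso _ _ _ e i h, fun h => @ProjCoh.subsingleton_of_iso _ _ _ e.symm i h⟩

/-- Lifting to the previous degree. -/
theorem exists_sum_mul {d : ℤ} (h : ∀ e : ℕ, Subsingleton (Coh.HH PS (GrTilde.tilde 𝒜 𝒩 (d - (2 + e : ℕ))) (1 + e)))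
    (s : Γ(GrTilde.tilde 𝒜 𝒩 d, ⊤)) :
    ∃ c : Fin (r + 1) → Γ(GrTilde.tilde 𝒜 𝒩 (d - 1), ⊤), s = ∑ v, (mulT 𝒩 v d).app ⊤ (c v) :=
  CMRegLib.koszul_surj (levels (k := k) (r := r) 𝒩) d h s

section Free

/-- The projections of a free module. -/
abbrev pr {a : ℕ} (b : Fin a) : (Fin a → MvPolynomial (Fin (r + 1)) k) →ₗ[MvPolynomial (Fin (r + 1)) k] MvPolynomial (Fin (r + 1)) k :=
  LinearMap.proj (R := MvPolynomial (Fin (r + 1)) k) (φ := fun _ : Fin a => MvPolynomial (Fin (r + 1)) k) b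

theorem hgen (i : ℕ) : (𝒜 1 : Submodule k (MvPolynomial (Fin (r + 1)) k)) * 𝒜 i = 𝒜 (i + 1) := by
  have h := fun n => MvPolynomial.homogeneousSubmodule_one_pow (σ := Fin (r + 1)) (R := k) n
  show MvPolynomial.homogeneousSubmodule (Fin (r + 1)) k 1 * MvPolynomial.homogeneousSubmodule (Fin (r + 1)) k i =
    MvPolynomial.homogeneousSubmodule (Fin (r + 1)) k (i + 1)
  rw [← h i, ← h (i + 1), pow_succ']

theorem polyGrading_one_ne_bot : (𝒜 1 : Submodule k (MvPolynomial (Fin (r + 1)) k)) ≠ ⊥ := fun h =>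
  MvPolynomial.X_ne_zero (0 : Fin (r + 1)) ((Submodule.eq_bot_iff _).1 h _ (ProjMap.X_mem (0 : Fin (r + 1))))

variable {a : ℕ} (e : Fin a → ℤ)

theorem mem_freeGr {v : Fin a → MvPolynomial (Fin (r + 1)) k} {n : ℕ} :
    v ∈ freeGr (k := k) (r := r) e n ↔ ∀ b, v b ∈ 𝒢 ((n : ℤ) - e b) := mem_piece

theorem injective_gl_free {n : ℕ} {d : ℤ} (h : (n : ℤ) = d) :
    Function.Injective (gl (freeGr (k := k) (r := r) e) h) := fun m m' hm => by
  haveI : IsIntegral PS := REqLib.isIntegral_projSpace r k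
  obtain ⟨x⟩ : Nonempty PS := inferInstance
  have h1 := congrArg (fun s => valAt s (⟨x, trivial⟩ : (⊤ : (PS).Opens))) hm
  simp only [valAt_gl] at h1
  obtain ⟨t, ht⟩ := LocalizedModule.mk_eq.1 h1
  have ht0 : (t : MvPolynomial (Fin (r + 1)) k) ≠ 0 := fun h => t.2 (h ▸ zero_mem _)
  refine Subtype.ext (funext fun b => ?_)
  have h2 := congrFun ht b
  simp only [one_smul] at h2
  exact mul_left_cancel₀ ht0 h2

theorem surjective_gl_free {n : ℕ} {d : ℤ} (h : (n : ℤ) = d) (he : ∀ b, e b ≤ d) :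
    Function.Surjective (gl (freeGr (k := k) (r := r) e) h) := by
  classical
  intro s
  have hdeg : ∀ b, IsDeg (freeGr e) (shiftGr (k := k) (r := r) (e b)) (pr b) := fun b i v hv =>
    (mem_freeGr e).1 hv b
  have hc : ∀ b, ∃ p : MvPolynomial (Fin (r + 1)) k, p ∈ 𝒢 ((n : ℤ) - e b) ∧ ∀ x : (⊤ : (PS).Opens),
      locMap (pr b) x.1 (valAt s x) = LocalizedModule.mk p 1 := by
    intro b
    obtain ⟨a, ha⟩ := Int.eq_ofNat_of_zero_le (show 0 ≤ d - e b by have := he b; omega)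
    have hreg : Regrades (shiftGr (k := k) (r := r) (e b)) (fun i => 𝒜 i) d (a : ℤ) := by
      intro i j m hm hij hm0
      have hnn : (0 : ℤ) ≤ (i : ℤ) - e b := by
        by_contra hlt
        exact hm0 (hpos _ (by omega) m hm)
      obtain ⟨i', hi'⟩ := Int.eq_ofNat_of_zero_le hnn
      refine ⟨i', by omega, mem_stdGr_natCast.1 ?_⟩
      rw [← hi']
      exact hm
    let w : Γ(GrTilde.tilde 𝒜 (fun i => 𝒜 i) (a : ℤ), ⊤) :=
      (regradeHom hreg).app ⊤ ((tmap 𝒜 _ _ (pr b) (hdeg b) d).app ⊤ s)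
    obtain ⟨y, hy⟩ := (ConcreteCategory.bijective_of_isIso ((twistIso 𝒜 (a : ℤ)).hom.app ⊤)).2 w
    obtain ⟨p, hp⟩ := (Groth.Agent.S10908.result 𝒜 hgen polyGrading_one_ne_bot UniqueFactorizationMonoid.instIsIntegrallyClosed a).2 y
    refine ⟨p.1, ?_, fun x => ?_⟩
    · have h1 := mem_stdGr_natCast.2 p.2
      rwa [show ((a : ℤ)) = (n : ℤ) - e b by omega] at h1
    · rw [← hp] at hy
      exact (congrArg (fun g => valAt g x) hy).symm
  choose f hf hfx using hc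
  refine ⟨⟨f, (mem_freeGr e).2 hf⟩, sect_ext fun x => ?_⟩
  rw [valAt_gl]
  have key : ∀ q : GrTilde.LocMod 𝒜 (M := Fin a → MvPolynomial (Fin (r + 1)) k) x.1,
      ∑ b, locMap (LinearMap.single (MvPolynomial (Fin (r + 1)) k) (fun _ : Fin a => MvPolynomial (Fin (r + 1)) k) b) x.1
        (locMap (pr b) x.1 q) = q := fun q => by
    induction q using LocalizedModule.induction_on with
    | _ m s =>
      have hmk : ∀ z : Fin a → MvPolynomial (Fin (r + 1)) k, (LocalizedModule.mk z s : GrTilde.LocMod 𝒜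
          (M := Fin a → MvPolynomial (Fin (r + 1)) k) x.1) = (Localization.mk (1 : MvPolynomial (Fin (r + 1)) k) s) •
            LocalizedModule.mkLinearMap x.1.asHomogeneousIdeal.toIdeal.primeCompl _ z := fun z => by
        rw [LocalizedModule.mkLinearMap_apply, LocalizedModule.mk_smul_mk, one_smul, mul_one]
      simp only [locMap_mk]
      simp only [hmk]
      rw [← Finset.smul_sum, ← map_sum]
      refine congrArg _ (congrArg _ ?_)
      exact (LinearMap.sum_single_apply _ m).trans rfl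
  rw [← key (LocalizedModule.mk f 1), ← key (valAt s x)]
  refine Finset.sum_congr rfl fun b _ => congrArg _ ?_
  rw [hfx b x, locMap_mk]
  rfl

end Free

end Groth.Agent.GrSyzLib
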