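import Groth.Agent.GrSyzLib.Sheaf
import Groth.Agent.GrTildeLib.Biprod
import Groth.Agent.S0850
import Groth.Agent.S19471

/-!
# Resolutions of coherent sheaves on projective space by sums of twists
-/

set_option autoImplicit false
set_option linter.unusedSectionVars false
set_option linter.style.haveILetI false
set_option backward.isDefEq.respectTransparency false
universe u

open DirectSum CategoryTheory CategoryTheory.Limits AlgebraicGeometry
open GrInjLib GrInjLib.Poly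

noncomputable section

namespace Groth.Agent.GrSyzLib

variable {k : Type u} [Field k] {r : ℕ}

local notation "S" => MvPolynomial (Fin (r + 1)) k
local notation "𝒢" => GrSyz.stdGr k (Fin (r + 1))
local notation "𝒜" => CohB1.polyGrading r k
local notation "PS" => CohB1.ProjSpace r k

/-- The sheaf of a free module is a coproduct of twists. -/
def freeSheafIso {m : ℕ} (e : Fin m → ℤ) :
    freeSheaf k r e ≅ ∐ fun b : Fin m => Twist.twistProjSpace r k (-(e b)) :=
  GrTildeLib.tildePiIso (fun b : Fin m => shiftGr (k := k) (r := r) (e b)) 0 ≪≫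
    Sigma.mapIso fun b => shiftIso (e b)

variable {M : Type u} [AddCommGroup M] [Module k M]

/-- Extension of a grading by the natural numbers to the integers. -/
def extZ (ℳ : ℕ → Submodule k M) : ℤ → Submodule k M := fun d => if 0 ≤ d then ℳ d.toNat else ⊥

theorem extZ_natCast (ℳ : ℕ → Submodule k M) (i : ℕ) : extZ ℳ (i : ℤ) = ℳ i := by simp [extZ]

theorem extZ_cases (ℳ : ℕ → Submodule k M) {d : ℤ} {m : M} (hm : m ∈ extZ ℳ d) :
    m = 0 ∨ ∃ i : ℕ, (i : ℤ) = d ∧ m ∈ ℳ i := by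
  unfold extZ at hm
  split_ifs at hm with h
  · exact Or.inr ⟨d.toNat, by omega, hm⟩
  · exact Or.inl hm

/-- Extended grading decomposes. -/
def decompZ (ℳ : ℕ → Submodule k M) [Decomposition ℳ] : Decomposition (extZ ℳ) :=
  let f : (⨁ i, ℳ i) →ₗ[k] ⨁ d, extZ ℳ d := DirectSum.toModule k ℕ _ fun i =>
    (DirectSum.lof k ℤ (fun d => extZ ℳ d) (i : ℤ)).comp (Submodule.inclusion (extZ_natCast ℳ i).ge)
  Decomposition.ofLinearMap (extZ ℳ) (f.comp (decomposeLinearEquiv ℳ).toLinearMap)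
    (by
      refine LinearMap.ext fun m => ?_
      induction m using Decomposition.inductionOn ℳ with
      | zero => simp
      | homogeneous m =>
        simp [f, decompose_coe, ← DirectSum.lof_eq_of k, Submodule.inclusion]
      | add a b ha hb => simp only [map_add, ha, hb])
    (by
      refine DirectSum.linearMap_ext k fun d => LinearMap.ext fun x => ?_
      rcases extZ_cases ℳ x.2 with h | ⟨i, rfl, hi⟩
      · obtain rfl : x = 0 := Subtype.ext h
        simp
      · show f ((decomposeLinearEquiv ℳ) ((DirectSum.coeLinearMap (extZ ℳ)) (lof k ℤ _ _ x))) = _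
        rw [coeLinearMap_lof]
        erw [decompose_of_mem ℳ hi]
        simp [f, ← DirectSum.lof_eq_of k, Submodule.inclusion]
        rfl)

variable [Module (MvPolynomial (Fin (r + 1)) k) M]

theorem gradedSMul_extZ (ℳ : ℕ → Submodule k M) [SetLike.GradedSMul 𝒜 ℳ] :
    SetLike.GradedSMul 𝒢 (extZ ℳ) := ⟨by
  intro i j a m ha hm
  rcases extZ_cases ℳ hm with rfl | ⟨j, rfl, hm⟩
  · rw [smul_zero]; exact zero_mem _
  by_cases hi : 0 ≤ i
  · lift i to ℕ using hi
    have h : a • m ∈ ℳ (i + j) :=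
      (inferInstance : SetLike.GradedSMul 𝒜 ℳ).smul_mem (mem_stdGr_natCast.1 ha) hm
    rw [vadd_eq_add, ← Nat.cast_add]
    exact (extZ_natCast ℳ _).ge h
  · rw [hpos i (not_le.1 hi) a ha, zero_smul]; exact zero_mem _⟩

theorem regrades_extZ (ℳ : ℕ → Submodule k M) :
    GrTildeLib.Regrades ℳ (fun n : ℕ => extZ ℳ (n : ℤ)) 0 0 ∧
      GrTildeLib.Regrades (fun n : ℕ => extZ ℳ (n : ℤ)) ℳ 0 0 :=
  ⟨fun i _ m hm he _ => ⟨i, he, (extZ_natCast ℳ i).ge hm⟩,
    fun i _ m hm he _ => ⟨i, he, (extZ_natCast ℳ i).le hm⟩⟩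

/-- A resolution of a coherent sheaf by sums of twists. -/
theorem exists_resolution (F : (CohB1.ProjSpace r k).Modules) (hF : Coh.IsCoh F) :
    ∃ (C : ChainComplex (CohB1.ProjSpace r k).Modules ℕ) (π : C.X 0 ⟶ F) (w : C.d 1 0 ≫ π = 0),
      (∀ i : ℕ, r + 1 < i → IsZero (C.X i)) ∧
      (∀ i : ℕ, ∃ (m : ℕ) (d : Fin m → ℤ), Nonempty (C.X i ≅ ∐ fun j : Fin m => Twist.twistProjSpace r k (d j))) ∧
      (∀ i : ℕ, 1 ≤ i → IsZero (C.homology i)) ∧ Epi π ∧ (ShortComplex.mk (C.d 1 0) π w).Exact := by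
  obtain ⟨M, i₁, i₂, i₃, i₄, ℳ, i₅, i₆, hfin, ⟨e⟩⟩ :=
    S0850.result (CohB1.polyGrading r k) F hF
  letI := decompZ ℳ
  haveI := gradedSMul_extZ (r := r) ℳ
  haveI : SetLike.GradedSMul 𝒜 (fun n : ℕ => extZ ℳ (n : ℤ)) := ⟨by
    intro i j a m ha hm
    refine (extZ_natCast ℳ _).ge ?_
    exact SetLike.GradedSMul.smul_mem ha ((extZ_natCast ℳ j).le hm)⟩
  obtain ⟨Φ, -, hlen⟩ := exists_res_hasLengthLE (k := k) (r := r) (M := M) (ℳ := extZ ℳ)
  let C : ChainComplex (CohB1.ProjSpace r k).Modules ℕ :=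
    ChainComplex.of (fun i => freeSheaf k r (Φ.deg i)) (dSheaf Φ) fun i => (exact_dSheaf Φ i).choose
  let ψ : (GrTilde.tilde 𝒜 (fun n : ℕ => extZ ℳ (n : ℤ)) 0 : (CohB1.ProjSpace r k).Modules) ≅ F :=
    GrTildeLib.regradeIso (regrades_extZ ℳ).2 (regrades_extZ ℳ).1 ≪≫ e
  obtain ⟨w₀, hex⟩ := exact_augSheaf Φ
  have h10 : C.d 1 0 = dSheaf Φ 0 := by simp [C, ChainComplex.of.d]
  refine ⟨C, augSheaf Φ ≫ ψ.hom, by rw [h10, ← Category.assoc, w₀, zero_comp], fun i hi => ?_,
    fun i => ⟨_, _, ⟨freeSheafIso (Φ.deg i)⟩⟩, fun i hi => ?_, ?_, ?_⟩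
  · haveI : IsEmpty (Fin (Φ.rk i)) := by rw [hlen i hi]; exact Fin.isEmpty
    exact GrTildeLib.isZero_tilde_of_subsingleton 0
  · obtain ⟨j, rfl⟩ : ∃ j, i = j + 1 := ⟨i - 1, by omega⟩
    refine HomologicalComplex.ExactAt.isZero_homology ((C.exactAt_iff' (j + 2) (j + 1) j (by simp) (by simp)).2 ?_)
    obtain ⟨w, h⟩ := exact_dSheaf Φ j
    refine ShortComplex.exact_of_iso ?_ h
    exact ShortComplex.isoMk (Iso.refl _) (Iso.refl _) (Iso.refl _) (by simp [C, HomologicalComplex.sc', ChainComplex.of.d])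
      (by simp [C, HomologicalComplex.sc', ChainComplex.of.d])
  · haveI := epi_augSheaf Φ
    exact epi_comp _ _
  · refine ShortComplex.exact_of_iso ?_ hex
    exact ShortComplex.isoMk (Iso.refl _) (Iso.refl _) ψ (by simp [h10]) (by simp)

end Groth.Agent.GrSyzLib
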