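import Mathlib
import Groth.Agent.GrSyzLib.Hilbert
import Groth.Agent.GrSyzLib.Local
import Groth.Agent.LocCohLib.Vanishing

/-!
# Sharpness of the bound for the Hilbert polynomial of a Cohen–Macaulay module
-/

set_option autoImplicit false
set_option linter.unusedSectionVars false
set_option linter.style.haveILetI false
universe u

open DirectSum GrInjLib GrInjLib.Poly

noncomputable section

namespace Groth.Agent.GrSyzLib

variable {k : Type u} [Field k] {r : ℕ}

local notation "S" => MvPolynomial (Fin (r + 1)) k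
local notation "𝒢" => GrSyz.stdGr k (Fin (r + 1))
local notation "𝔪" => HomogeneousIdeal.toIdeal (GrSyz.irrel (GrSyz.stdGr k (Fin (r + 1))))
local notation "𝔞" => GrSyz.irrel (GrSyz.stdGr k (Fin (r + 1)))

theorem van_of_subsingleton_locCoh (X : GrLC.GMod.{u} (GrSyz.stdGr k (Fin (r + 1)))) (i : ℕ) (g : ℤ)
    (h : Subsingleton (LocCoh.H (HomogeneousIdeal.toIdeal (GrSyz.irrel (GrSyz.stdGr k (Fin (r + 1))))) i X.carrier)) :
    Van (GrSyz.irrel (GrSyz.stdGr k (Fin (r + 1)))) X i g := fun E => by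
  obtain ⟨e⟩ := exists_H_equiv_locCoh E 𝔞 i
  haveI : Subsingleton (E.H 𝔞 i) := e.toEquiv.subsingleton_congr.2 h
  exact (Submodule.eq_bot_iff _).2 fun x _ => Subsingleton.elim _ _

theorem irrel_smul_top_ne {M : Type u} [AddCommGroup M] [Module S M] [Module.Finite S M]
    (h : (𝔪).IsPrime) (hn : Nontrivial (LocalizedModule (𝔪).primeCompl M)) : 𝔪 • (⊤ : Submodule S M) ≠ ⊤ := by
  haveI := irrel_isMaximal (k := k) (r := r)
  exact GrKunnethLib.smul_top_ne_top_of_nontrivial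

theorem van_ring_of_le {i : ℕ} (hi : i ≤ r) (g : ℤ) : Van 𝔞 (ringG (𝒜 := 𝒢)) i g := by
  haveI := irrel_isMaximal (k := k) (r := r)
  refine van_of_subsingleton_locCoh _ i g ?_
  exact LocCohLib.subsingleton_of_isWeaklyRegular 𝔪 (ModuleCat.of S S)
    (List.ofFn fun j : Fin (r + 1) => (MvPolynomial.X j : S)) isWeaklyRegular_X
    (fun y hy => by
      obtain ⟨j, rfl⟩ := List.mem_ofFn.1 hy
      rw [irrel_eq_X]
      exact Ideal.subset_span ⟨j, trivial, rfl⟩)
    i (by rw [List.length_ofFn]; omega)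

/-- Vanishing at the depth, along a resolution whose last degrees are small. -/
theorem van_depth {X : GrLC.GMod.{u} (GrSyz.stdGr k (Fin (r + 1)))}
    (G : GrSyz.FreeRes (GrSyz.stdGr k (Fin (r + 1))) X.gr) (ℓ : ℕ) (hℓ : G.HasLengthLE ℓ) {d : ℤ}
    (hlast : ∀ b, G.deg ℓ b ≤ d + ℓ - 1) {δ : ℕ} (hsum : ℓ + δ = r + 1) (g : ℤ) (hg : d - 1 < g + δ) :
    Van 𝔞 X δ g := by
  have hfree : ∀ j : ℕ, j ≤ ℓ → Van 𝔞 (freeG (𝒜 := 𝒢) (G.deg j)) (δ + j) g := by
    intro j hj
    rcases hj.lt_or_eq with h | rfl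
    · exact van_free _ fun b => van_ring_of_le (by omega) _
    · exact isReg_free isReg_ring (G.deg j) hlast (δ + j) g (by push_cast; omega)
  have key : ∀ (m j : ℕ), j + m = ℓ → Van 𝔞 (syz G j) (δ + j + 1) g := by
    intro m
    induction m with
    | zero =>
      intro j hj
      refine van_of_subsingleton (fun x => ?_) _ _
      haveI : IsEmpty (Fin (G.rk (j + 1))) := by rw [hℓ (j + 1) (by omega)]; infer_instance
      obtain ⟨w, hw⟩ := toSyz_surjective G j x
      rw [← hw, show w = 0 from funext fun b => isEmptyElim (α := Fin (G.rk (j + 1))) b, map_zero]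
    | succ m ih =>
      intro j hj
      refine van_right
        ((isGrHom_iff _ _).1 (subIncl_grHom 𝒢 (freeG (𝒜 := 𝒢) (G.deg (j + 1))).gr
          (range_d_homogeneous G (j + 1))))
        (toSyz_grHom G j) (subIncl_injective _ _ _) (fun b => ?_) (toSyz_surjective G j)
        (add_zero g) (hfree (j + 1) (by omega)) (ih (j + 1) (by omega))
      rw [← LinearMap.mem_range, range_subIncl, ← ker_toSyz, LinearMap.mem_ker]
  refine van_right
    ((isGrHom_iff _ _).1 (subIncl_grHom 𝒢 (freeG (𝒜 := 𝒢) (G.deg 0)).gr (range_d_homogeneous G 0)))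
    (aug_grHom G) (subIncl_injective _ _ _) (fun b => ?_) G.aug_surjective
    (add_zero g) (hfree 0 (Nat.zero_le _)) (key ℓ 0 (zero_add ℓ))
  rw [← LinearMap.mem_range, range_subIncl]
  exact (SetLike.ext_iff.1 G.exact_zero b)

variable {M : Type u} [AddCommGroup M] [Module (MvPolynomial (Fin (r + 1)) k) M] {ρ : Type u} [SetLike ρ M]
  [AddSubgroupClass ρ M] {ℳ : ℤ → ρ} [Decomposition ℳ] [SetLike.GradedSMul (GrSyz.stdGr k (Fin (r + 1))) ℳ]

/-- For a Cohen–Macaulay module the regularity is attained at the last term of the resolution. -/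
theorem exists_deg_eq_last [Module.Finite (MvPolynomial (Fin (r + 1)) k) M]
    (hCM : Module.supportDim S M = ((LocCoh.idealDepth 𝔪 M : ℕ∞) : WithBot ℕ∞))
    (F : GrSyz.FreeRes (GrSyz.stdGr k (Fin (r + 1))) ℳ) (hF : F.IsMinimal 𝔪)
    (ℓ : ℕ) (hℓ : F.HasLengthLE ℓ) (hℓ' : F.rk ℓ ≠ 0)
    (d : ℤ) (hd : F.IsGenLE d) (hd' : ∃ (i : ℕ) (b : Fin (F.rk i)), F.deg i b = d + i) :
    ∃ b : Fin (F.rk ℓ), F.deg ℓ b = d + ℓ := by
  haveI := irrel_isMaximal (k := k) (r := r)
  by_contra hne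
  push Not at hne
  have hlast : ∀ b, F.deg ℓ b ≤ d + ℓ - 1 := fun b => by
    have := hd ℓ b
    have := hne b
    omega
  -- the depth
  have hab := auslander_buchsbaum F hF hℓ hℓ'
  obtain ⟨δ, hδ⟩ : ∃ δ : ℕ, LocCoh.idealDepth 𝔪 M = (δ : ℕ∞) := by
    cases h : LocCoh.idealDepth 𝔪 M with
    | top => rw [h, add_top] at hab; exact absurd hab (ENat.top_ne_natCast _)
    | coe δ => exact ⟨δ, rfl⟩
  rw [hδ] at hab hCM
  have hsum : ℓ + δ = r + 1 := by exact_mod_cast hab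
  have hI : 𝔪 • (⊤ : Submodule S M) ≠ ⊤ :=
    irrel_smul_top_ne inferInstance (loc_nontrivial F hF (rk_zero_ne_zero F hF hℓ'))
  have hMne : ∀ (i : ℕ) (g : ℤ), i ≠ δ → Van 𝔞 (addG 𝒢 ℳ) i g := by
    intro i g hi
    refine van_of_subsingleton_locCoh _ i g ?_
    show Subsingleton (LocCoh.H 𝔪 i M)
    rcases lt_or_gt_of_ne hi with h | h
    · exact (GrKunnethLib.natCast_le_idealDepth_iff_H hI δ).1 hδ.ge i h
    · refine LocCohLib.subsingleton_of_supportDim_lt 𝔪 M i ?_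
      rw [hCM]
      exact WithBot.coe_lt_coe.2 (Nat.cast_lt.2 h)
  have hreg : IsReg 𝔞 (addG 𝒢 ℳ) (d - 1) := by
    intro i g hg
    by_cases hi : i = δ
    · subst hi
      exact van_depth (addFree F) ℓ hℓ (fun b => hlast b) hsum g hg
    · exact hMne i g hi
  obtain ⟨i, b, hb⟩ := hd'
  have := (genLE_iff F hF (d - 1)).2 hreg i b
  omega

variable [Module k M] [IsScalarTower k (MvPolynomial (Fin (r + 1)) k) M]

theorem eval_cntPoly_corner : (cntPoly r).eval ((-(r : ℤ) - 1 : ℤ) : ℚ) = (-1) ^ r := by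
  rw [eval_cntPoly]
  have h : ∀ t ∈ Finset.range r, ((-(r : ℤ) - 1 + t + 1 : ℤ) : ℚ) = -1 * ((r - t : ℕ) : ℚ) := by
    intro t ht
    rw [Nat.cast_sub (Finset.mem_range.1 ht).le]
    push_cast
    ring
  rw [Finset.prod_congr rfl h, Finset.prod_mul_distrib, Finset.prod_const, Finset.card_range]
  have h2 : ∏ t ∈ Finset.range r, ((r - t : ℕ) : ℚ) = (r.factorial : ℚ) := by
    rw [← Nat.cast_prod, ← Nat.descFactorial_eq_prod_range, Nat.descFactorial_self]
  rw [h2, mul_left_comm, inv_mul_cancel₀ (by exact_mod_cast r.factorial_ne_zero), mul_one]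

theorem hilbert_ne_poly {N : ℤ → Submodule k M} [Decomposition N]
    [SetLike.GradedSMul (GrSyz.stdGr k (Fin (r + 1))) N]
    (F : GrSyz.FreeRes (GrSyz.stdGr k (Fin (r + 1))) N) (ℓ : ℕ) (hℓ : F.HasLengthLE ℓ)
    (d : ℤ) (hd : F.IsGenLE d) (hlast : ∃ b : Fin (F.rk ℓ), F.deg ℓ b = d + ℓ)
    (P : Polynomial ℚ) (hP : ∃ d₁ : ℤ, ∀ x : ℤ, d₁ ≤ x → ((Module.finrank k ↥(N x) : ℤ) : ℚ) = P.eval (x : ℚ)) :
    ((Module.finrank k ↥(N (d + ℓ - r - 1)) : ℤ) : ℚ) ≠ P.eval ((d + ℓ - r - 1 : ℤ) : ℚ) := by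
  classical
  obtain ⟨d₁, hP⟩ := hP
  have hPeq : P = resPoly F ℓ := by
    refine Polynomial.eq_of_infinite_eval_eq _ _ (Set.Infinite.mono
      (s := (fun m : ℕ => ((max d₁ (d + ℓ) + m : ℤ) : ℚ)) '' Set.univ) ?_
      (Set.infinite_univ.image fun a _ b _ h => by simpa using h))
    rintro _ ⟨m, -, rfl⟩
    show P.eval _ = (resPoly F ℓ).eval _
    rw [← hP _ (le_add_of_le_of_nonneg (le_max_left _ _) (Int.natCast_nonneg _)), hilbert_poly_eq F hℓ]
    intro i b
    have h1 := hd i b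
    have h2 : i ≤ ℓ := by
      by_contra hc
      exact (Fin.cast (hℓ i (by omega)) b).elim0
    have := le_max_right d₁ (d + ℓ)
    omega
  intro h
  rw [hPeq, hilbert_eq F hℓ, eval_resPoly] at h
  push_cast [termCnt] at h
  rw [Finset.sum_range_succ, Finset.sum_range_succ] at h
  have hlow : ∀ i ∈ Finset.range ℓ,
      ((-1 : ℚ) ^ i * ∑ b : Fin (F.rk i), (cnt r (d + ℓ - r - 1 - F.deg i b) : ℚ)) =
        (-1 : ℚ) ^ i * ∑ b : Fin (F.rk i), (cntPoly r).eval (((d : ℚ) + ℓ - r - 1) - (F.deg i b : ℚ)) := by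
    intro i hi
    congr 1
    refine Finset.sum_congr rfl fun b _ => ?_
    have := hd i b
    rw [Finset.mem_range] at hi
    rw [← eval_cntPoly_eq (g := d + ℓ - r - 1 - F.deg i b) (by omega)]
    push_cast
    ring_nf
  rw [Finset.sum_congr rfl hlow] at h
  have h' := mul_left_cancel₀ (pow_ne_zero ℓ (by norm_num : (-1 : ℚ) ≠ 0)) (add_left_cancel h)
  rw [← sub_eq_zero, ← Finset.sum_sub_distrib] at h'
  have hterm : ∀ b : Fin (F.rk ℓ),
      (cnt r (d + ℓ - r - 1 - F.deg ℓ b) : ℚ) - (cntPoly r).eval (((d : ℚ) + ℓ - r - 1) - (F.deg ℓ b : ℚ)) =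
        if F.deg ℓ b = d + ℓ then -((-1) ^ r) else 0 := by
    intro b
    split_ifs with hb
    · rw [hb, show cnt r (d + ℓ - r - 1 - (d + ℓ)) = 0 from if_neg (by omega), Nat.cast_zero, zero_sub,
        ← eval_cntPoly_corner (r := r)]
      push_cast
      ring_nf
    · have := hd ℓ b
      rw [← eval_cntPoly_eq (g := d + ℓ - r - 1 - F.deg ℓ b) (by omega)]
      push_cast
      exact sub_self _
  rw [Finset.sum_congr rfl fun b _ => hterm b, ← Finset.sum_filter, Finset.sum_const, nsmul_eq_mul,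
    mul_eq_zero] at h'
  rcases h' with h' | h'
  · obtain ⟨b, hb⟩ := hlast
    exact Finset.notMem_empty b ((Finset.card_eq_zero.1 (by exact_mod_cast h')) ▸
      Finset.mem_filter.2 ⟨Finset.mem_univ b, hb⟩)
  · simp at h'

end Groth.Agent.GrSyzLib
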