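import Mathlib
import Groth.Agent.GrSyzLib.Hilbert

/-!
# Uniqueness of the graded Betti numbers of minimal resolutions
-/

set_option autoImplicit false
set_option linter.unusedSectionVars false
set_option linter.style.haveILetI false
universe u

open DirectSum GrInjLib GrInjLib.Poly

noncomputable section

namespace Groth.Agent.GrSyzLib

variable {k : Type u} [Field k] {r : ℕ}

local notation "S" => MvPolynomial (Fin (r + 1)) k
local notation "𝒢" => GrSyz.stdGr k (Fin (r + 1))
local notation "𝔪" => HomogeneousIdeal.toIdeal (GrSyz.irrel (GrSyz.stdGr k (Fin (r + 1))))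

/-- A degree-preserving endomorphism which is the identity modulo `𝔪` is bijective. -/
theorem bijective_of_congr_id {n : ℕ} (e : Fin n → ℤ) (χ : (Fin n → S) →ₗ[S] (Fin n → S))
    (hg : GrLC.IsGrHom (freeG (𝒜 := 𝒢) e).gr (freeG (𝒜 := 𝒢) e).gr χ)
    (hm : ∀ b a, χ (Pi.single b 1) a - (Pi.single b 1 : Fin n → S) a ∈ 𝔪) : Function.Bijective χ := by
  classical
  suffices hs : Function.Surjective χ from
    ⟨OrzechProperty.injective_of_surjective_endomorphism χ hs, hs⟩
  have key : ∀ (N : ℕ) (b : Fin n), (Finset.univ.filter fun a => e a < e b).card < N →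
      (Pi.single b 1 : Fin n → S) ∈ LinearMap.range χ := by
    intro N
    induction N with
    | zero => intro b h; omega
    | succ N ih =>
      intro b hb
      let c : Fin n → S := χ (Pi.single b 1) - Pi.single b 1
      have hc : c ∈ LinearMap.range χ := by
        rw [pi_eq_sum_univ' c]
        refine Submodule.sum_mem _ fun a _ => ?_
        by_cases ha : e a < e b
        · refine Submodule.smul_mem _ _ (ih a ?_)
          refine lt_of_lt_of_le (Finset.card_lt_card ?_) (Nat.lt_succ_iff.1 hb)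
          rw [Finset.ssubset_iff_of_subset (fun x hx => by
            simp only [Finset.mem_filter, Finset.mem_univ, true_and] at hx ⊢; omega)]
          exact ⟨a, by simpa using ha, by simp⟩
        · have hca : c a = 0 := by
            refine eq_zero_of_mem_irrel_of_deg_nonpos (g := e b - e a) (by omega) ?_ (hm b a)
            have hsingle : (Pi.single b 1 : Fin n → S) ∈ (freeG (𝒜 := 𝒢) e).gr (e b) :=
              single_mem_freePieces e b (by rw [sub_self]; exact SetLike.one_mem_graded _)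
            exact sub_mem (hg (e b) _ hsingle a) (mem_freePieces.1 hsingle a)
          rw [hca, zero_smul]
          exact zero_mem _
      have : (Pi.single b 1 : Fin n → S) = χ (Pi.single b 1) - c := by simp [c]
      rw [this]
      exact sub_mem (LinearMap.mem_range_self _ _) hc
  intro v
  show v ∈ LinearMap.range χ
  rw [pi_eq_sum_univ' v]
  exact Submodule.sum_mem _ fun b _ => Submodule.smul_mem _ _ (key _ b (Nat.lt_succ_self _))

/-- Lifting a graded map from a free module through another one. -/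
theorem exists_lift_free (Y : GrLC.GMod.{u} (GrSyz.stdGr k (Fin (r + 1)))) {n n' : ℕ} (e : Fin n → ℤ) (e' : Fin n' → ℤ)
    (f : (Fin n → S) →ₗ[S] Y.carrier) (f' : (Fin n' → S) →ₗ[S] Y.carrier)
    (hf : GrLC.IsGrHom (freeG (𝒜 := 𝒢) e).gr Y.gr f) (hf' : GrLC.IsGrHom (freeG (𝒜 := 𝒢) e').gr Y.gr f')
    (hr : LinearMap.range f ≤ LinearMap.range f') :
    ∃ φ : (Fin n → S) →ₗ[S] (Fin n' → S),
      GrLC.IsGrHom (freeG (𝒜 := 𝒢) e).gr (freeG (𝒜 := 𝒢) e').gr φ ∧ f'.comp φ = f := by
  classical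
  have hex : ∀ b : Fin n, ∃ w ∈ (freeG (𝒜 := 𝒢) e').gr (e b), f' w = f (Pi.single b 1) := fun b =>
    exists_preimage_piece (freeG (𝒜 := 𝒢) e').gr Y.gr ((isGrHom_iff _ _).1 hf') (g := e b)
      (by rw [add_zero]; exact hf _ _ (single_mem_freePieces e b (by rw [sub_self]; exact SetLike.one_mem_graded _)))
      (hr (LinearMap.mem_range_self _ _))
  choose w hw hfw using hex
  refine ⟨Fintype.linearCombination S w, fun g v hv a => ?_, LinearMap.pi_ext' fun b => LinearMap.ext_ring ?_⟩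
  · rw [Fintype.linearCombination_apply, Finset.sum_apply]
    refine sum_mem fun b _ => ?_
    have := SetLike.GradedMul.mul_mem (mem_freePieces.1 hv b) (mem_freePieces.1 (hw b) a)
    rwa [show g - e b + (e b - e' a) = g - e' a by abel] at this
  · show f' (Fintype.linearCombination S w (Pi.single b 1)) = f (Pi.single b 1)
    rw [Fintype.linearCombination_apply_single, one_smul, hfw]

/-- Two minimal covers of the same module are isomorphic. -/
theorem exists_iso_covers (Y : GrLC.GMod.{u} (GrSyz.stdGr k (Fin (r + 1)))) {n n' : ℕ} (e : Fin n → ℤ) (e' : Fin n' → ℤ)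
    (f : (Fin n → S) →ₗ[S] Y.carrier) (f' : (Fin n' → S) →ₗ[S] Y.carrier)
    (hf : GrLC.IsGrHom (freeG (𝒜 := 𝒢) e).gr Y.gr f) (hf' : GrLC.IsGrHom (freeG (𝒜 := 𝒢) e').gr Y.gr f')
    (hr : LinearMap.range f = LinearMap.range f')
    (hmin : ∀ v, f v = 0 → ∀ j, v j ∈ 𝔪) (hmin' : ∀ v, f' v = 0 → ∀ j, v j ∈ 𝔪) :
    ∃ φ : (Fin n → S) →ₗ[S] (Fin n' → S),
      GrLC.IsGrHom (freeG (𝒜 := 𝒢) e).gr (freeG (𝒜 := 𝒢) e').gr φ ∧ Function.Bijective φ ∧ f'.comp φ = f := by
  obtain ⟨φ, hφ, hφf⟩ := exists_lift_free Y e e' f f' hf hf' hr.le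
  obtain ⟨ψ, hψ, hψf⟩ := exists_lift_free Y e' e f' f hf' hf hr.ge
  have h1 : ∀ x, f' (φ x) = f x := fun x => LinearMap.congr_fun hφf x
  have h2 : ∀ x, f (ψ x) = f' x := fun x => LinearMap.congr_fun hψf x
  have hb1 : Function.Bijective (ψ.comp φ) := bijective_of_congr_id e _ (fun g v hv => hψ g _ (hφ g v hv))
    fun b a => hmin (ψ (φ (Pi.single b 1)) - Pi.single b 1) (by rw [map_sub, h2, h1, sub_self]) a
  have hb2 : Function.Bijective (φ.comp ψ) := bijective_of_congr_id e' _ (fun g v hv => hφ g _ (hψ g v hv))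
    fun b a => hmin' (φ (ψ (Pi.single b 1)) - Pi.single b 1) (by rw [map_sub, h1, h2, sub_self]) a
  exact ⟨φ, hφ, ⟨(show Function.Injective (⇑ψ ∘ ⇑φ) from hb1.1).of_comp,
    (show Function.Surjective (⇑φ ∘ ⇑ψ) from hb2.2).of_comp⟩, hφf⟩

theorem count_eq_of_iso {n n' : ℕ} (e : Fin n → ℤ) (e' : Fin n' → ℤ) (φ : (Fin n → S) →ₗ[S] (Fin n' → S))
    (hφ : GrLC.IsGrHom (freeG (𝒜 := 𝒢) e).gr (freeG (𝒜 := 𝒢) e').gr φ) (hb : Function.Bijective φ) (j : ℤ) :
    (Finset.univ.filter fun b => e b = j).card = (Finset.univ.filter fun b => e' b = j).card := by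
  classical
  have hp : ∀ d, ∑ b, cnt r (d - e b) = ∑ b, cnt r (d - e' b) := by
    intro d
    rw [← finrank_piece (k := k), ← finrank_piece (k := k)]
    have hmap : (piece (k := k) (r := r) e d).map (φ.restrictScalars k) = piece e' d := by
      ext v
      constructor
      · rintro ⟨w, hw, rfl⟩
        exact mem_piece.2 (mem_freePieces.1 (hφ d w (mem_freePieces.2 (mem_piece.1 hw))))
      · intro hv
        obtain ⟨w, hw, hwv⟩ := exists_preimage_piece (freeG (𝒜 := 𝒢) e).gr (freeG (𝒜 := 𝒢) e').gr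
          ((isGrHom_iff _ _).1 hφ) (g := d) (y := v)
          (mem_freePieces.2 fun b => by rw [add_zero]; exact mem_piece.1 hv b) (hb.2 v)
        exact ⟨w, mem_piece.2 (mem_freePieces.1 hw), hwv⟩
    rw [← hmap]
    exact (Submodule.equivMapOfInjective (φ.restrictScalars k) (show Function.Injective (φ.restrictScalars k) from hb.1) (piece (k := k) (r := r) e d)).finrank_eq
  let J := Finset.univ.image e ∪ Finset.univ.image e' ∪ {j}
  have hsum : ∀ {m : ℕ} (c : Fin m → ℤ), Finset.univ.image c ⊆ J → ∀ d,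
      ∑ b, cnt r (d - c b) = ∑ i ∈ J, (Finset.univ.filter fun b => c b = i).card * cnt r (d - i) := by
    intro m c hc d
    rw [← Finset.sum_fiberwise_of_maps_to (t := J) (g := c) fun b _ => hc (Finset.mem_image_of_mem c (Finset.mem_univ b))]
    refine Finset.sum_congr rfl fun i _ => ?_
    rw [Finset.sum_congr rfl fun b hb => by rw [(Finset.mem_filter.1 hb).2], Finset.sum_const, smul_eq_mul]
  by_contra hne
  obtain ⟨i, hi, hmin⟩ := Finset.exists_min_image
    (J.filter fun i => (Finset.univ.filter fun b => e b = i).card ≠ (Finset.univ.filter fun b => e' b = i).card) id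
    ⟨j, Finset.mem_filter.2 ⟨by simp [J], hne⟩⟩
  rw [Finset.mem_filter] at hi
  have h := hp i
  rw [hsum e (fun x hx => Finset.mem_union_left _ (Finset.mem_union_left _ hx)),
    hsum e' (fun x hx => Finset.mem_union_left _ (Finset.mem_union_right _ hx)),
    ← Finset.add_sum_erase _ _ hi.1, ← Finset.add_sum_erase _ _ hi.1] at h
  have hrest : ∀ l ∈ J.erase i, (Finset.univ.filter fun b => e b = l).card * cnt r (i - l) =
      (Finset.univ.filter fun b => e' b = l).card * cnt r (i - l) := by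
    intro l hl
    obtain ⟨hli, hlJ⟩ := Finset.mem_erase.1 hl
    by_cases hlt : l < i
    · by_cases heq : (Finset.univ.filter fun b => e b = l).card = (Finset.univ.filter fun b => e' b = l).card
      · rw [heq]
      · exact absurd (hmin l (Finset.mem_filter.2 ⟨hlJ, heq⟩)) (not_le.2 hlt)
    · rw [show cnt r (i - l) = 0 from if_neg (by omega), mul_zero, mul_zero]
  rw [Finset.sum_congr rfl hrest] at h
  have h' := Nat.add_right_cancel h
  simp [cnt] at h'
  exact hi.2 h'

variable {M : Type u} [AddCommGroup M] [Module (MvPolynomial (Fin (r + 1)) k) M] {ρ : Type u} [SetLike ρ M]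
  [AddSubgroupClass ρ M] {ℳ : ℤ → ρ} [Decomposition ℳ] [SetLike.GradedSMul (GrSyz.stdGr k (Fin (r + 1))) ℳ]

/-- Minimal resolutions are termwise isomorphic. -/
theorem exists_iso_terms (F F' : GrSyz.FreeRes (GrSyz.stdGr k (Fin (r + 1))) ℳ)
    (hF : F.IsMinimal 𝔪) (hF' : F'.IsMinimal 𝔪) : ∀ i : ℕ,
    ∃ φ : (Fin (F.rk i) → S) →ₗ[S] (Fin (F'.rk i) → S),
      GrLC.IsGrHom (freeG (𝒜 := 𝒢) (F.deg i)).gr (freeG (𝒜 := 𝒢) (F'.deg i)).gr φ ∧ Function.Bijective φ ∧
        (LinearMap.range (F.dLin i)).map φ = LinearMap.range (F'.dLin i)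
  | 0 => by
    obtain ⟨φ, hφ, hb, hφf⟩ := exists_iso_covers (addG 𝒢 ℳ) (F.deg 0) (F'.deg 0) F.augLin F'.augLin
      (aug_grHom (addFree F)) (aug_grHom (addFree F'))
      ((LinearMap.range_eq_top.2 F.aug_surjective).trans (LinearMap.range_eq_top.2 F'.aug_surjective).symm)
      (fun v hv => apply_mem_of_mem_range hF 0 (F.exact_zero ▸ LinearMap.mem_ker.2 hv))
      (fun v hv => apply_mem_of_mem_range hF' 0 (F'.exact_zero ▸ LinearMap.mem_ker.2 hv))
    refine ⟨φ, hφ, hb, ?_⟩
    rw [← F.exact_zero, ← F'.exact_zero]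
    ext v
    constructor
    · rintro ⟨w, hw, rfl⟩
      exact (LinearMap.congr_fun hφf w).trans hw
    · intro hv
      obtain ⟨w, rfl⟩ := hb.2 v
      exact ⟨w, (LinearMap.congr_fun hφf w).symm.trans hv, rfl⟩
  | i + 1 => by
    obtain ⟨φ₀, hφ₀, hb₀, hr₀⟩ := exists_iso_terms F F' hF hF' i
    obtain ⟨φ, hφ, hb, hφf⟩ := exists_iso_covers (freeG (𝒜 := 𝒢) (F'.deg i)) (F.deg (i + 1)) (F'.deg (i + 1))
      (φ₀.comp (F.dLin i)) (F'.dLin i) (fun g v hv => hφ₀ g _ (d_grHom (addFree F) i g v hv))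
      (d_grHom (addFree F') i) (by rw [LinearMap.range_comp, hr₀])
      (fun v hv => apply_mem_of_mem_range hF (i + 1) (F.exact_succ i ▸ LinearMap.mem_ker.2
        (hb₀.1 (by rw [map_zero]; exact hv))))
      (fun v hv => apply_mem_of_mem_range hF' (i + 1) (F'.exact_succ i ▸ LinearMap.mem_ker.2 hv))
    refine ⟨φ, hφ, hb, ?_⟩
    rw [← F.exact_succ i, ← F'.exact_succ i]
    ext v
    constructor
    · rintro ⟨w, hw, rfl⟩
      have h : F'.dLin i (φ w) = φ₀ (F.dLin i w) := LinearMap.congr_fun hφf w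
      rw [LinearMap.mem_ker, h, show F.dLin i w = 0 from hw, map_zero]
    · intro hv
      obtain ⟨w, rfl⟩ := hb.2 v
      have h : F'.dLin i (φ w) = φ₀ (F.dLin i w) := LinearMap.congr_fun hφf w
      exact ⟨w, hb₀.1 (by rw [map_zero, ← h]; exact hv), rfl⟩

theorem betti_eq (F F' : GrSyz.FreeRes (GrSyz.stdGr k (Fin (r + 1))) ℳ)
    (hF : F.IsMinimal 𝔪) (hF' : F'.IsMinimal 𝔪) (i : ℕ) (j : ℤ) : F.betti i j = F'.betti i j := by
  obtain ⟨φ, hφ, hb, -⟩ := exists_iso_terms F F' hF hF' i
  exact count_eq_of_iso _ _ φ hφ hb j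

end Groth.Agent.GrSyzLib
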